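import Cfsg.Agent.H830.B57.Defs

/-!
# Sections: `Involves H G` and homomorphisms
-/

set_option autoImplicit false

open Subgroup

namespace Cfsg.Agent.H830.B57

universe u v w

theorem inv_iff {H : Type u} [Group H] {G : Type v} [Group G] :
    Cfsg.Involves H G ↔ ∃ (K : Subgroup G) (f : K →* H), Function.Surjective f := by
  constructor
  · rintro ⟨K, R, hR, ⟨e⟩⟩
    exact ⟨K, e.toMonoidHom.comp (QuotientGroup.mk' (R.subgroupOf K)),
      e.surjective.comp (QuotientGroup.mk'_surjective _)⟩
  · rintro ⟨K, f, hf⟩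
    refine ⟨K, f.ker.map K.subtype, ?_, ?_⟩
    · have h1 : (f.ker.map K.subtype).subgroupOf K = f.ker := by
        ext x
        simp [mem_subgroupOf]
      rw [h1]
      infer_instance
    · have h1 : (f.ker.map K.subtype).subgroupOf K = f.ker := by
        ext x
        simp [mem_subgroupOf]
      have : ((f.ker.map K.subtype).subgroupOf K).Normal := by
        rw [h1]; infer_instance
      exact ⟨(QuotientGroup.quotientMulEquivOfEq h1).trans
        (QuotientGroup.quotientKerEquivOfSurjective f hf)⟩

/-- sections of a subgroup -/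
theorem involves_of_injective {H : Type u} [Group H] {L : Type v} [Group L] {G : Type w} [Group G]
    (f : L →* G) (hf : Function.Injective f) (h : Cfsg.Involves H L) : Cfsg.Involves H G := by
  rw [inv_iff] at h ⊢
  obtain ⟨K, g, hg⟩ := h
  refine ⟨K.map f, g.comp (K.equivMapOfInjective f hf).symm.toMonoidHom, ?_⟩
  exact hg.comp (K.equivMapOfInjective f hf).symm.surjective

/-- sections of a quotient -/
theorem involves_of_surjective {H : Type u} [Group H] {Q : Type v} [Group Q] {G : Type w} [Group G]
    (f : G →* Q) (hf : Function.Surjective f) (h : Cfsg.Involves H Q) : Cfsg.Involves H G := by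
  rw [inv_iff] at h ⊢
  obtain ⟨K, g, hg⟩ := h
  refine ⟨K.comap f, g.comp (f.subgroupComap K), ?_⟩
  intro y
  obtain ⟨k, rfl⟩ := hg y
  obtain ⟨x, hx⟩ := hf k
  refine ⟨⟨x, ?_⟩, ?_⟩
  · rw [mem_comap, hx]
    exact k.2
  · change g (f.subgroupComap K _) = g k
    congr 1
    exact Subtype.ext hx

theorem involves_of_equiv {H : Type u} [Group H] {Q : Type v} [Group Q] {G : Type w} [Group G]
    (e : G ≃* Q) (h : Cfsg.Involves H Q) : Cfsg.Involves H G :=
  involves_of_surjective e.toMonoidHom e.surjective h

theorem BaseLE.mono {G Ω : Type*} [Group G] [MulAction G Ω] {a b : ℕ} (h : BaseLE G Ω a)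
    (hab : a ≤ b) : BaseLE G Ω b := by
  obtain ⟨B, h1, h2⟩ := h
  exact ⟨B, h1.trans hab, h2⟩

end Cfsg.Agent.H830.B57
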