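import Mathlib
import Cfsg.Prelude.Def_LocalEven

/-!
# S5717 (bases of primitive groups without an `A_d` section): interface of the reductions

`BaseLE` : weak base; `TBase` : base of the automorphisms of a simple group on a coset space;
`Wt` : weights on the automorphisms of a simple group controlling all fixed point ratios;
`LinWt` : the linear version; `LinPrim` : primitive linear groups.
-/

set_option autoImplicit false

open Subgroup

namespace Cfsg.Agent.H830.B57

/-- at most `b` points whose pointwise stabiliser acts trivially -/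
def BaseLE (G Ω : Type*) [Group G] [MulAction G Ω] (b : ℕ) : Prop :=
  ∃ B : Finset Ω, B.card ≤ b ∧ ∀ g : G, (∀ x ∈ B, g • x = x) → ∀ x : Ω, g • x = x

/-- the number of `t` with `t⁻¹ a(t) ∈ H`: `|H|` times the number of fixed points of `a` on `T ⧸ H` if `a(H) = H` -/
noncomputable def fn {T : Type*} [Group T] (a : MulAut T) (H : Subgroup T) : ℕ :=
  Nat.card {t : T // t⁻¹ * a t ∈ H}

/-- the number of `t` with `t⁻¹ y t ∈ H`: `|H|` times the number of fixed points of `y` on `T ⧸ H` -/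
noncomputable def fi {T : Type*} [Group T] (y : T) (H : Subgroup T) : ℕ :=
  Nat.card {t : T // t⁻¹ * y * t ∈ H}

/-- `k` points in every nontrivial transitive `T`-set are a base for all automorphisms fixing a point. -/
def TBase (T : Type*) [Group T] (k : ℕ) : Prop :=
  ∀ H : Subgroup T, H ≠ ⊤ → ∃ t : Fin k → T, ∀ a : MulAut T, (∀ h, h ∈ H ↔ a h ∈ H) →
    (∀ j, (t j)⁻¹ * a (t j) ∈ H) → a = 1

/-- The common part of the weights: `m` = rank, `w` = weight, `C` = absolute constant. -/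
structure WtBase (C m : ℕ) (T : Type*) [Group T] (w : MulAut T → ℝ) : Prop where
  m_pos : 1 ≤ m
  low : ∀ a : MulAut T, a ≠ 1 → 1 ≤ C * w a
  count : ∀ s : ℝ, 0 ≤ s → (Nat.card {a : MulAut T // w a ≤ s} : ℝ) ≤ (2 : ℝ) ^ ((C : ℝ) * m * s)
  size : ∀ H : Subgroup T, H ≠ ⊤ → Nat.card (MulAut T) ≤ H.index ^ (C * m)

/-- Weights controlling all fixed point ratios of a simple group (Lie type and sporadic groups). -/
structure Wt (C m : ℕ) (T : Type*) [Group T] (w : MulAut T → ℝ) : Prop extends WtBase C m T w where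
  fpr : ∀ a : MulAut T, a ≠ 1 → ∀ H : Subgroup T, H ≠ ⊤ → (∀ h, h ∈ H ↔ a h ∈ H) →
    (fn a H : ℝ) ≤ Nat.card T * (2 : ℝ) ^ (-(w a))
  comm : ∀ a : MulAut T, a ≠ 1 → ∃ g : T, ∀ H : Subgroup T, H ≠ ⊤ →
    (fi (g⁻¹ * a g) H : ℝ) ≤ Nat.card T * (2 : ℝ) ^ (-(w a))

/-- Weights controlling the fixed spaces in all modules of all perfect central extensions of `T`. -/
structure LinWt (C m : ℕ) (T : Type) [Group T] (w : MulAut T → ℝ) : Prop extends WtBase C m T w where
  lin : ∀ (E : Type) [Group E] [Finite E] (π : E →* T), Function.Surjective π →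
    π.ker ≤ center E → commutator E = ⊤ →
    ∀ (p : ℕ) [Fact p.Prime] (U : Type) [AddCommGroup U] [Module (ZMod p) U] [Finite U]
      (ρ : E →* (U ≃ₗ[ZMod p] U)), (∀ u : U, (∀ g, ρ g u = u) → u = 0) → (∃ u : U, u ≠ 0) →
    ∀ (α : MulAut E) (a : MulAut T), (∀ e, π (α e) = a (π e)) → a ≠ 1 →
    ∃ g : E, (Nat.card {u : U // ρ (g⁻¹ * α g) u = u} : ℝ) ≤ Nat.card U * (2 : ℝ) ^ (-(w a))

/-- primitive linear group: irreducible, and no proper system of imprimitivity -/
structure PrimLin {p : ℕ} [Fact p.Prime] {V : Type*} [AddCommGroup V] [Module (ZMod p) V]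
    (X : Subgroup (V ≃ₗ[ZMod p] V)) : Prop where
  nt : ∃ v : V, v ≠ 0
  irr : ∀ W : Submodule (ZMod p) V, (∀ g ∈ X, ∀ v ∈ W, g v ∈ W) → W = ⊥ ∨ W = ⊤
  prim : ∀ (ι : Type) [Finite ι] (W : ι → Submodule (ZMod p) V), iSupIndep W → iSup W = ⊤ →
    (∀ i, W i ≠ ⊥) → (∀ g ∈ X, ∀ i, ∃ j, ∀ v, v ∈ W i ↔ g v ∈ W j) → Subsingleton ι

/-- `LinPrim d b`: primitive linear groups without an `A_d` section have a base of size `b`. -/
def LinPrim (d b : ℕ) : Prop :=
  ∀ (p : ℕ) [Fact p.Prime] (V : Type) [AddCommGroup V] [Module (ZMod p) V] [Finite V]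
    (X : Subgroup (V ≃ₗ[ZMod p] V)), PrimLin X → ¬ Cfsg.Involves (alternatingGroup (Fin d)) X →
    ∃ B : Finset V, B.card ≤ b ∧ ∀ g ∈ X, (∀ v ∈ B, g v = v) → g = 1

end Cfsg.Agent.H830.B57
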