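import Cfsg.Agent.H830.B57.RootB
import Cfsg.Agent.H920.FP.G7
import Cfsg.Agent.H917.FP.SLTwo
import Cfsg.Agent.LieClassical.HermPerfect
import Cfsg.Agent.H254.BS.PartI

/-!
# S5717, bounded rank: `SU_n(q)` (helper830)
-/

set_option autoImplicit false
set_option linter.unusedVariables false
set_option linter.unusedSectionVars false

open Matrix

namespace Cfsg.Agent.H830.B57.RootSU

open Cfsg Cfsg.Agent.LieClassical.HermBasic Cfsg.Agent.LieClassical.HermSiegel
  Cfsg.Agent.LieClassical.HermGen Cfsg.Agent.LieClassical.HermSimple Cfsg.Agent.LieClassical.HermPerfect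
  Cfsg.Agent.H917.FP Cfsg.Agent.H920.FP Cfsg.Agent.H830.B57.RootB Cfsg.Agent.H254.BS.PI

variable {F : Type} [Field F] [Fintype F] {q n : ℕ}

/-- the fixed field -/
def K0 (hF : Fintype.card F = q ^ 2) : Subfield F where
  carrier := {x | x ^ q = x}
  mul_mem' := by
    intro a b ha hb
    rw [Set.mem_ofPred_eq] at *
    rw [mul_pow, ha, hb]
  one_mem' := one_pow q
  add_mem' := by
    intro a b ha hb
    rw [Set.mem_ofPred_eq] at *
    rw [add_pow_q hF, ha, hb]
  zero_mem' := zero_pow_q hF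
  neg_mem' := by
    intro a ha
    rw [Set.mem_ofPred_eq] at *
    rw [neg_pow_q hF, ha]
  inv_mem' := by
    intro a ha
    rw [Set.mem_ofPred_eq] at *
    rw [inv_pow, ha]

theorem mem_K0 (hF : Fintype.card F = q ^ 2) {x : F} : x ∈ K0 hF ↔ x ^ q = x := Iff.rfl

theorem card_K0 (hF : Fintype.card F = q ^ 2) : Nat.card (K0 hF) = q := card_fixed hF

/-- `SL₂` acting on the hyperbolic plane with basis `v`, `η w` -/
def slmat (q : ℕ) (η : F) (v w : Fin n → F) (a b c d : F) : Matrix (Fin n) (Fin n) F :=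
  1 + (Matrix.vecMulVec v (fun j => (a - 1) * w j ^ q + b * η⁻¹ * v j ^ q) +
    Matrix.vecMulVec w (fun j => η * c * w j ^ q + (d - 1) * v j ^ q))

theorem slmat_mulVec (η : F) (v w : Fin n → F) (a b c d : F) (x : Fin n → F) :
    slmat q η v w a b c d *ᵥ x = x + ((a - 1) * hermForm n F q x w + b * η⁻¹ * hermForm n F q x v) • v +
      (η * c * hermForm n F q x w + (d - 1) * hermForm n F q x v) • w := by
  have h1 : (fun j => (a - 1) * w j ^ q + b * η⁻¹ * v j ^ q) ⬝ᵥ x =
      (a - 1) * hermForm n F q x w + b * η⁻¹ * hermForm n F q x v := by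
    rw [herm_def, herm_def, dotProduct, Finset.mul_sum, Finset.mul_sum, ← Finset.sum_add_distrib]
    exact Finset.sum_congr rfl fun _ _ => by ring
  have h2 : (fun j => η * c * w j ^ q + (d - 1) * v j ^ q) ⬝ᵥ x =
      η * c * hermForm n F q x w + (d - 1) * hermForm n F q x v := by
    rw [herm_def, herm_def, dotProduct, Finset.mul_sum, Finset.mul_sum, ← Finset.sum_add_distrib]
    exact Finset.sum_congr rfl fun _ _ => by ring
  rw [slmat, Matrix.add_mulVec, Matrix.add_mulVec, Matrix.one_mulVec,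
    Matrix.vecMulVec_mulVec, Matrix.vecMulVec_mulVec, h1, h2, op_smul_eq_smul, op_smul_eq_smul, add_assoc]

/-- a hyperbolic pair -/
structure Pair (q : ℕ) (v w : Fin n → F) : Prop where
  hv : hermForm n F q v v = 0
  hw : hermForm n F q w w = 0
  hvw : hermForm n F q v w = 1

theorem Pair.wv {v w : Fin n → F} (h : Pair q v w) (hF : Fintype.card F = q ^ 2) : hermForm n F q w v = 1 := by
  rw [herm_swap hF v w, h.hvw, one_pow]

theorem Pair.symm {v w : Fin n → F} (h : Pair q v w) (hF : Fintype.card F = q ^ 2) : Pair q w v :=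
  ⟨h.hw, h.hv, h.wv hF⟩

theorem slmat_mul (hF : Fintype.card F = q ^ 2) {η : F} (hη : η ≠ 0) {v w : Fin n → F} (h : Pair q v w)
    (a b c d a' b' c' d' : F) :
    slmat q η v w a b c d * slmat q η v w a' b' c' d' =
      slmat q η v w (a * a' + b * c') (a * b' + b * d') (c * a' + d * c') (c * b' + d * d') := by
  apply Matrix.ext_of_mulVec_single
  intro i
  rw [← Matrix.mulVec_mulVec, slmat_mulVec, slmat_mulVec, slmat_mulVec]
  simp only [herm_add_left, herm_smul_left, h.hv, h.hw, h.hvw, h.wv hF]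
  set α := hermForm n F q (Pi.single i 1) w
  set β := hermForm n F q (Pi.single i 1) v
  funext j
  simp only [Pi.add_apply, Pi.smul_apply, smul_eq_mul]
  field_simp
  ring

theorem slmat_herm (hF : Fintype.card F = q ^ 2) {η : F} (hη : η ≠ 0) (hη2 : η ^ q = -η) {v w : Fin n → F}
    (h : Pair q v w) {a b c d : F} (ha : a ^ q = a) (hb : b ^ q = b) (hc : c ^ q = c) (hd : d ^ q = d)
    (hdet : a * d - b * c = 1) (x y : Fin n → F) :
    hermForm n F q (slmat q η v w a b c d *ᵥ x) (slmat q η v w a b c d *ᵥ y) = hermForm n F q x y := by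
  rw [slmat_mulVec, slmat_mulVec]
  simp only [herm_add_left, herm_smul_left, herm_add_right hF, herm_smul_right, h.hv, h.hw, h.hvw, h.wv hF]
  have e1 : hermForm n F q v y = hermForm n F q y v ^ q := herm_swap hF y v
  have e2 : hermForm n F q w y = hermForm n F q y w ^ q := herm_swap hF y w
  rw [e1, e2]
  simp only [add_pow_q hF, mul_pow, sub_pow_q hF, inv_pow, ha, hb, hc, hd, hη2, one_pow]
  set α := hermForm n F q x w
  set β := hermForm n F q x v
  set α' := hermForm n F q y w ^ q
  set β' := hermForm n F q y v ^ q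
  field_simp
  ring_nf
  linear_combination (α * β' + β * α') * η ^ 2 * hdet

/-- the homomorphism to the matrices -/
noncomputable def pre (hF : Fintype.card F = q ^ 2) {η : F} (hη : η ≠ 0) {v w : Fin n → F} (h : Pair q v w) :
    Matrix.SpecialLinearGroup (Fin 2) (K0 hF) →* Matrix (Fin n) (Fin n) F where
  toFun g := slmat q η v w (g.1 0 0) (g.1 0 1) (g.1 1 0) (g.1 1 1)
  map_one' := by
    apply Matrix.ext_of_mulVec_single
    intro i
    rw [slmat_mulVec, Matrix.one_mulVec]
    simp
  map_mul' g g' := by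
    rw [slmat_mul hF hη h]
    simp [Matrix.mul_apply, Fin.sum_univ_two]

theorem pre_det (hF : Fintype.card F = q ^ 2) {η : F} (hη : η ≠ 0) {v w : Fin n → F} (h : Pair q v w) (h4 : 4 ≤ q)
    (g : Matrix.SpecialLinearGroup (Fin 2) (K0 hF)) : (pre hF hη h g).det = 1 := by
  have := Fintype.ofFinite (K0 hF)
  have hc : commutator (Matrix.SpecialLinearGroup (Fin 2) (K0 hF)) = ⊤ := by
    apply Cfsg.Agent.H259.NatMod.commutator_eq_top
    rw [← Nat.card_eq_fintype_card, card_K0 hF]
    omega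
  let f : Matrix.SpecialLinearGroup (Fin 2) (K0 hF) →* Fˣ := (Matrix.detMonoidHom.comp (pre hF hη h)).toHomUnits
  have h1 : commutator (Matrix.SpecialLinearGroup (Fin 2) (K0 hF)) ≤ f.ker := Abelianization.commutator_subset_ker f
  rw [hc] at h1
  have h2 : f g = 1 := h1 (Subgroup.mem_top g)
  have h3 := congrArg Units.val h2
  exact h3

theorem pre_herm (hF : Fintype.card F = q ^ 2) {η : F} (hη : η ≠ 0) (hη2 : η ^ q = -η) {v w : Fin n → F}
    (h : Pair q v w) (g : Matrix.SpecialLinearGroup (Fin 2) (K0 hF)) (x y : Fin n → F) :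
    hermForm n F q (pre hF hη h g *ᵥ x) (pre hF hη h g *ᵥ y) = hermForm n F q x y := by
  refine slmat_herm hF hη hη2 h (g.1 0 0).2 (g.1 0 1).2 (g.1 1 0).2 (g.1 1 1).2 ?_ x y
  have := g.2
  rw [Matrix.det_fin_two] at this
  have := congrArg (Subtype.val) this
  simpa using this

/-- the homomorphism to `SU` -/
noncomputable def phi (hF : Fintype.card F = q ^ 2) {η : F} (hη : η ≠ 0) (hη2 : η ^ q = -η) {v w : Fin n → F}
    (h : Pair q v w) (h4 : 4 ≤ q) : Matrix.SpecialLinearGroup (Fin 2) (K0 hF) →* SU n F q where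
  toFun g := mkSU (pre hF hη h g) (pre_det hF hη h h4 g) (pre_herm hF hη hη2 h g)
  map_one' := by
    apply mat_injective
    exact map_one (pre hF hη h)
  map_mul' g g' := by
    apply mat_injective
    rw [mat_mul]
    exact map_mul (pre hF hη h) g g'

theorem act_phi (hF : Fintype.card F = q ^ 2) {η : F} (hη : η ≠ 0) (hη2 : η ^ q = -η) {v w : Fin n → F}
    (h : Pair q v w) (h4 : 4 ≤ q) (g : Matrix.SpecialLinearGroup (Fin 2) (K0 hF)) (x : Fin n → F) :
    act (phi hF hη hη2 h h4 g) x =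
      x + (((g.1 0 0 : F) - 1) * hermForm n F q x w + (g.1 0 1 : F) * η⁻¹ * hermForm n F q x v) • v +
      (η * (g.1 1 0 : F) * hermForm n F q x w + ((g.1 1 1 : F) - 1) * hermForm n F q x v) • w :=
  slmat_mulVec _ _ _ _ _ _ _ _

/-- transvections -/
theorem isS (hF : Fintype.card F = q ^ 2) {u : Fin n → F} (hu : hermForm n F q u u = 0) {μ : F} (hμ : μ + μ ^ q = 0) :
    IsSiegel q u 0 μ :=
  ⟨hu, herm_zero_left u, by rw [herm_zero_left, add_zero]; exact hμ⟩

theorem tr_of (hF : Fintype.card F = q ^ 2) {η : F} (hη2 : η ^ q = -η) (c : K0 hF) :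
    η * (c : F) + (η * (c : F)) ^ q = 0 := by
  rw [mul_pow, hη2, (mem_K0 hF).1 c.2]; ring

theorem tr_of' (hF : Fintype.card F = q ^ 2) {η : F} (hη2 : η ^ q = -η) (c : K0 hF) :
    (c : F) * η⁻¹ + ((c : F) * η⁻¹) ^ q = 0 := by
  rw [mul_pow, inv_pow, hη2, (mem_K0 hF).1 c.2, inv_neg]; ring

theorem phi_lo (hF : Fintype.card F = q ^ 2) {η : F} (hη : η ≠ 0) (hη2 : η ^ q = -η) {v w : Fin n → F}
    (h : Pair q v w) (h4 : 4 ≤ q) (c : K0 hF) :
    phi hF hη hη2 h h4 (lo c) = siegel hF w 0 (η * (c : F)) (isS hF h.hw (tr_of hF hη2 c)) := by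
  apply ext_act
  intro x
  rw [act_phi, act_siegel]
  have e1 : ((lo c).1 0 0 : K0 hF) = 1 := rfl
  have e2 : ((lo c).1 0 1 : K0 hF) = 0 := rfl
  have e3 : ((lo c).1 1 0 : K0 hF) = c := rfl
  have e4 : ((lo c).1 1 1 : K0 hF) = 1 := rfl
  rw [e1, e2, e3, e4, herm_zero_right hF]
  funext j
  simp

theorem phi_up (hF : Fintype.card F = q ^ 2) {η : F} (hη : η ≠ 0) (hη2 : η ^ q = -η) {v w : Fin n → F}
    (h : Pair q v w) (h4 : 4 ≤ q) (c : K0 hF) :
    phi hF hη hη2 h h4 (up c) = siegel hF v 0 ((c : F) * η⁻¹) (isS hF h.hv (tr_of' hF hη2 c)) := by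
  apply ext_act
  intro x
  rw [act_phi, act_siegel]
  have e1 : ((up c).1 0 0 : K0 hF) = 1 := rfl
  have e2 : ((up c).1 0 1 : K0 hF) = c := rfl
  have e3 : ((up c).1 1 0 : K0 hF) = 0 := rfl
  have e4 : ((up c).1 1 1 : K0 hF) = 1 := rfl
  rw [e1, e2, e3, e4, herm_zero_right hF]
  funext j
  simp

/-- the transvection group -/
def T (hF : Fintype.card F = q ^ 2) (u : Fin n → F) : Set (SU n F q) :=
  {g | ∃ (μ : F) (h : IsSiegel q u 0 μ), siegel hF u 0 μ h = g}

theorem mem_T_lo (hF : Fintype.card F = q ^ 2) {η : F} (hη : η ≠ 0) (hη2 : η ^ q = -η) {v w : Fin n → F}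
    (h : Pair q v w) (h4 : 4 ≤ q) (x : SU n F q) : x ∈ T hF w ↔ ∃ c, phi hF hη hη2 h h4 (lo c) = x := by
  constructor
  · rintro ⟨μ, hμ, rfl⟩
    have h1 := hμ.tr
    rw [herm_zero_left, add_zero] at h1
    have h2 : μ ^ q = -μ := (neg_eq_of_add_eq_zero_right h1).symm
    refine ⟨⟨η⁻¹ * μ, ?_⟩, ?_⟩
    · rw [mem_K0, mul_pow, inv_pow, h2, hη2, inv_neg, neg_mul_neg]
    · rw [phi_lo]
      exact siegel_congr hF _ _ rfl rfl (mul_inv_cancel_left₀ hη μ)
  · rintro ⟨c, rfl⟩
    rw [phi_lo]
    exact ⟨_, _, rfl⟩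

theorem mem_T_up (hF : Fintype.card F = q ^ 2) {η : F} (hη : η ≠ 0) (hη2 : η ^ q = -η) {v w : Fin n → F}
    (h : Pair q v w) (h4 : 4 ≤ q) (x : SU n F q) : x ∈ T hF v ↔ ∃ c, phi hF hη hη2 h h4 (up c) = x := by
  constructor
  · rintro ⟨μ, hμ, rfl⟩
    have h1 := hμ.tr
    rw [herm_zero_left, add_zero] at h1
    have h2 : μ ^ q = -μ := (neg_eq_of_add_eq_zero_right h1).symm
    refine ⟨⟨μ * η, ?_⟩, ?_⟩
    · rw [mem_K0, mul_pow, h2, hη2, neg_mul_neg]
    · rw [phi_up]
      exact siegel_congr hF _ _ rfl rfl (mul_inv_cancel_right₀ hη μ)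
  · rintro ⟨c, rfl⟩
    rw [phi_up]
    exact ⟨_, _, rfl⟩

theorem T_smul (hF : Fintype.card F = q ^ 2) {u : Fin n → F} {c : F} (hc : c ≠ 0) : T hF (c • u) = T hF u := by
  have key : ∀ (u : Fin n → F) (c : F), c ≠ 0 → hermForm n F q u u = 0 → T hF (c • u) ⊆ T hF u := by
    rintro u c hc hu _ ⟨μ, hμ, rfl⟩
    have h0 : IsSiegel q u 0 μ := ⟨hu, herm_zero_left u, hμ.tr⟩
    have h1 := siegel_smul hF (c := c) h0
    have h2 : IsSiegel q u 0 (c * c ^ q * μ) := by
      have := h0.smul' hF (c := c)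
      rwa [smul_zero] at this
    refine ⟨c * c ^ q * μ, h2, ?_⟩
    rw [h1]
    exact siegel_congr hF _ _ rfl (smul_zero _).symm rfl
  by_cases hu : hermForm n F q u u = 0
  · apply Set.Subset.antisymm (key u c hc hu)
    have h1 := key (c • u) c⁻¹ (inv_ne_zero hc) (by rw [herm_smul_left, herm_smul_right, hu]; ring)
    rwa [smul_smul, inv_mul_cancel₀ hc, one_smul] at h1
  · ext x
    constructor
    · rintro ⟨μ, hμ, rfl⟩
      exfalso
      have h1 := hμ.iso
      rw [herm_smul_left, herm_smul_right] at h1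
      exact hu ((mul_eq_zero.1 ((mul_eq_zero.1 h1).resolve_left hc)).resolve_left (pow_ne_zero _ hc))
    · rintro ⟨μ, hμ, rfl⟩
      exact absurd hμ.iso hu

theorem T_conj (hF : Fintype.card F = q ^ 2) (u : Fin n → F) (g : SU n F q) : cj g (T hF u) = T hF (act g u) := by
  ext x
  constructor
  · rintro ⟨_, ⟨μ, hμ, rfl⟩, rfl⟩
    have h1 := conj_siegel hF hμ g
    have h2 : IsSiegel q (act g u) 0 μ := by
      have := hμ.map g
      rwa [act_zero] at this
    exact ⟨μ, h2, (h1.trans (siegel_congr hF _ _ rfl (act_zero g) rfl)).symm⟩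
  · rintro ⟨μ, hμ, rfl⟩
    have h0 : IsSiegel q u 0 μ := by
      have := hμ.map g⁻¹
      rwa [act_zero, act_inv_act] at this
    have h1 := conj_siegel hF h0 g
    exact ⟨_, ⟨μ, h0, rfl⟩, h1.trans (siegel_congr hF _ _ rfl (act_zero g) rfl)⟩

/-- isotropic vectors not orthogonal to `v` span -/
theorem span_iso (hF : Fintype.card F = q ^ 2) {v : Fin n → F} (hv0 : v ≠ 0) (hv : hermForm n F q v v = 0) :
    Submodule.span F {u : Fin n → F | hermForm n F q u u = 0 ∧ hermForm n F q u v ≠ 0} = ⊤ := by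
  obtain ⟨w, hw, hvw⟩ := exists_partner hF hv0 hv
  have hwv : hermForm n F q w v = 1 := by rw [herm_swap hF v w, hvw, one_pow]
  obtain ⟨κ, hκ0, hκ⟩ := exists_trace_zero_ne hF
  set W := Submodule.span F {u : Fin n → F | hermForm n F q u u = 0 ∧ hermForm n F q u v ≠ 0} with hW
  have hwW : w ∈ W := Submodule.subset_span ⟨hw, by rw [hwv]; exact one_ne_zero⟩
  have h1 : w + κ • v ∈ W := by
    apply Submodule.subset_span
    constructor
    · simp only [herm_add_left, herm_add_right hF, herm_smul_left, herm_smul_right, hw, hv, hvw, hwv]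
      linear_combination hκ
    · rw [herm_add_left, herm_smul_left, hv, hwv]
      simp
  have hvW : v ∈ W := by
    have h2 := W.sub_mem h1 hwW
    rw [add_sub_cancel_left] at h2
    have h3 := W.smul_mem κ⁻¹ h2
    rwa [smul_smul, inv_mul_cancel₀ hκ0, one_smul] at h3
  have key : ∀ x : Fin n → F, hermForm n F q x v ≠ 0 → x ∈ W := by
    intro x hx
    have hx' : hermForm n F q v x ≠ 0 := fun h => hx (herm_eq_zero_swap hF h)
    obtain ⟨t, ht⟩ := exists_iso_correct hF hv hx'
    have h2 : x + t • v ∈ W := by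
      apply Submodule.subset_span
      refine ⟨ht, ?_⟩
      rw [herm_add_left, herm_smul_left, hv, mul_zero, add_zero]
      exact hx
    have h3 := W.sub_mem h2 (W.smul_mem t hvW)
    rwa [add_sub_cancel_right] at h3
  rw [eq_top_iff]
  intro x _
  by_cases hx : hermForm n F q x v = 0
  · have h2 : x + w ∈ W := by
      apply key
      rw [herm_add_left, hx, hwv, zero_add]
      exact one_ne_zero
    have h3 := W.sub_mem h2 hwW
    rwa [add_sub_cancel_right] at h3
  · exact key x hx

/-- few elements map `v` into `v^⊥` -/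
theorem card_bad_le (hF : Fintype.card F = q ^ 2) {v : Fin n → F} (hv0 : v ≠ 0) (hv : hermForm n F q v v = 0) :
    q * Nat.card {u : SU n F q | hermForm n F q (act u v) v = 0} ≤ n * Nat.card (SU n F q) := by
  classical
  obtain ⟨η, hη0, hη⟩ := exists_trace_zero_ne hF
  have hη2 : η ^ q = -η := (neg_eq_of_add_eq_zero_right hη).symm
  set S := {u : Fin n → F | hermForm n F q u u = 0 ∧ hermForm n F q u v ≠ 0} with hS
  let b := Module.Basis.ofSpan (span_iso hF hv0 hv).ge
  have hbS : ∀ i, b i ∈ S := by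
    intro i
    have := Module.Basis.ofSpan_subset (span_iso hF hv0 hv).ge
    exact this ⟨i, rfl⟩
  have := Fintype.ofFinite (SU n F q)
  have hfin : Fintype ((linearIndepOn_empty F id).extend (Set.empty_subset S)) := Fintype.ofFinite _
  have hcardb : Fintype.card ((linearIndepOn_empty F id).extend (Set.empty_subset S)) = n := by
    rw [← Module.finrank_eq_card_basis b, Module.finrank_fintype_fun_eq_card, Fintype.card_fin]
  -- one basis vector
  have hone : ∀ i, q * (Finset.univ.filter fun u : SU n F q => hermForm n F q (act u v) v = 0 ∧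
      hermForm n F q (act u v) (b i) ≠ 0).card ≤ Nat.card (SU n F q) := by
    intro i
    have hbi := hbS i
    set z := b i with hz
    let τ : K0 hF → SU n F q := fun c => siegel hF z 0 (η * (c : F)) (isS hF hbi.1 (tr_of hF hη2 c))
    have hτ : ∀ c x, act (τ c) x = x + (η * (c : F) * hermForm n F q x z) • z := by
      intro c x
      simp only [τ]
      rw [act_siegel, herm_zero_right hF]
      simp
    let E := {u : SU n F q // hermForm n F q (act u v) v = 0 ∧ hermForm n F q (act u v) z ≠ 0}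
    have hinj : Function.Injective (fun p : K0 hF × E => τ p.1 * p.2.1) := by
      rintro ⟨c, u, hu1, hu2⟩ ⟨c', u', hu1', hu2'⟩ he
      simp only at he
      have h1 := congrArg (fun g => hermForm n F q (act g v) v) he
      have h2 := congrArg (fun g => hermForm n F q (act g v) z) he
      simp only [act_mul, hτ, herm_add_left, herm_smul_left, hbi.1, hu1, hu1', mul_zero, add_zero, zero_add] at h1 h2
      rw [← h2] at h1
      have h3 : (η * ((c : F) - c')) * (hermForm n F q (act u v) z * hermForm n F q z v) = 0 := by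
        linear_combination h1
      have h4 : (c : F) = c' := by
        rcases mul_eq_zero.1 h3 with h5 | h5
        · exact sub_eq_zero.1 ((mul_eq_zero.1 h5).resolve_left hη0)
        · exact absurd h5 (mul_ne_zero hu2 hbi.2)
      have h5 : c = c' := Subtype.ext h4
      subst h5
      have h6 : u = u' := mul_left_cancel he
      subst h6
      rfl
    have h1 := Nat.card_le_card_of_injective _ hinj
    rw [Nat.card_prod, card_K0] at h1
    refine le_trans (Nat.mul_le_mul_left q (le_of_eq ?_)) h1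
    rw [Nat.card_eq_fintype_card, Fintype.card_subtype]
  have hcov : (Finset.univ.filter fun u : SU n F q => hermForm n F q (act u v) v = 0) ⊆
      Finset.univ.biUnion fun i => Finset.univ.filter fun u : SU n F q => hermForm n F q (act u v) v = 0 ∧
      hermForm n F q (act u v) (b i) ≠ 0 := by
    intro u hu
    have hu := (Finset.mem_filter.1 hu).2
    rw [Finset.mem_biUnion]
    by_contra hcon
    push Not at hcon
    have h1 : ∀ i, hermForm n F q (act u v) (b i) = 0 := by
      intro i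
      by_contra h2
      exact hcon i (Finset.mem_univ _) (Finset.mem_filter.2 ⟨Finset.mem_univ _, hu, h2⟩)
    have h2 : act u v = 0 := by
      apply herm_nondeg hF
      intro x
      rw [← b.sum_repr x, herm_sum_right hF]
      exact Finset.sum_eq_zero fun i _ => by rw [herm_smul_right, h1, mul_zero]
    exact hv0 ((act_eq_zero u).1 h2)
  have h1 := Finset.card_le_card hcov
  have h2 : Nat.card {u : SU n F q | hermForm n F q (act u v) v = 0} =
      (Finset.univ.filter fun u : SU n F q => hermForm n F q (act u v) v = 0).card := by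
    rw [Nat.card_eq_fintype_card, ← Set.toFinset_card]
    congr 1
    ext u
    simp
  rw [h2]
  calc q * (Finset.univ.filter fun u : SU n F q => hermForm n F q (act u v) v = 0).card
      ≤ q * ∑ i, (Finset.univ.filter fun u : SU n F q => hermForm n F q (act u v) v = 0 ∧
        hermForm n F q (act u v) (b i) ≠ 0).card := Nat.mul_le_mul_left q (h1.trans Finset.card_biUnion_le)
    _ = ∑ i, q * (Finset.univ.filter fun u : SU n F q => hermForm n F q (act u v) v = 0 ∧
        hermForm n F q (act u v) (b i) ≠ 0).card := Finset.mul_sum _ _ _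
    _ ≤ ∑ _i : ((linearIndepOn_empty F id).extend (Set.empty_subset S)), Nat.card (SU n F q) :=
        Finset.sum_le_sum fun i _ => hone i
    _ = n * Nat.card (SU n F q) := by rw [Finset.sum_const, smul_eq_mul, Finset.card_univ, hcardb]

/-- a partner of `v` orthogonal to `v'` -/
theorem exists_pair (hF : Fintype.card F = q ^ 2) {v v' : Fin n → F} (hv0 : v ≠ 0) (hv : hermForm n F q v v = 0)
    (hv'0 : v' ≠ 0) (hvv' : hermForm n F q v v' = 0) (hne : ¬ ∃ c : F, v' = c • v) :
    ∃ w, Pair q w v ∧ hermForm n F q v' w = 0 := by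
  obtain ⟨y0, hy0⟩ := exists_herm_ne_zero hF hv'0
  -- normalise
  obtain ⟨y1, hy1⟩ : ∃ y1, hermForm n F q v' y1 = 1 :=
    ⟨((hermForm n F q v' y0)⁻¹ ^ q) • y0, by rw [herm_smul_right, pow_q_pow_q hF, inv_mul_cancel₀ hy0]⟩
  set a := hermForm n F q v y1 with ha
  set u := v - a • v' with hu
  have hu0 : u ≠ 0 := by
    intro h
    have h1 : v = a • v' := sub_eq_zero.1 h
    by_cases ha0 : a = 0
    · rw [ha0, zero_smul] at h1
      exact hv0 h1
    · apply hne
      exact ⟨a⁻¹, by rw [h1, smul_smul, inv_mul_cancel₀ ha0, one_smul]⟩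
  have huy1 : hermForm n F q u y1 = 0 := by
    rw [hu, herm_sub_left, herm_smul_left, hy1, mul_one, ← ha, sub_self]
  obtain ⟨y2, hy2⟩ := exists_herm_ne_zero hF hu0
  set y := y2 - (hermForm n F q v' y2 ^ q) • y1 with hy
  have h1 : hermForm n F q v' y = 0 := by
    rw [hy, herm_sub_right hF, herm_smul_right, hy1, pow_q_pow_q hF, mul_one, sub_self]
  have h2 : hermForm n F q v y ≠ 0 := by
    have h3 : hermForm n F q u y = hermForm n F q u y2 := by
      rw [hy, herm_sub_right hF, herm_smul_right, huy1, mul_zero, sub_zero]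
    have h4 : hermForm n F q v y = hermForm n F q u y := by
      rw [hu, herm_sub_left, herm_smul_left, h1, mul_zero, sub_zero]
    rw [h4, h3]
    exact hy2
  obtain ⟨t, ht⟩ := exists_iso_correct hF hv h2
  have hv'v : hermForm n F q v' v = 0 := herm_eq_zero_swap hF hvv'
  have h3 : hermForm n F q v (y + t • v) = hermForm n F q v y := by
    rw [herm_add_right hF, herm_smul_right, hv, mul_zero, add_zero]
  have h4 : hermForm n F q v' (y + t • v) = 0 := by
    rw [herm_add_right hF, herm_smul_right, hv'v, mul_zero, h1, add_zero]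
  refine ⟨((hermForm n F q v y)⁻¹ ^ q) • (y + t • v), ⟨?_, hv, ?_⟩, ?_⟩
  · rw [herm_smul_left, herm_smul_right, ht, mul_zero, mul_zero]
  · have h5 : hermForm n F q v (((hermForm n F q v y)⁻¹ ^ q) • (y + t • v)) = 1 := by
      rw [herm_smul_right, h3, pow_q_pow_q hF, inv_mul_cancel₀ h2]
    rw [herm_swap hF v, h5, one_pow]
  · rw [herm_smul_right, h4, mul_zero]

theorem normalClosure_T (hF : Fintype.card F = q ^ 2) (hn : 3 ≤ n) (h32 : ¬ (n = 3 ∧ q = 2)) {v : Fin n → F}
    (hv0 : v ≠ 0) (hv : hermForm n F q v v = 0) : Subgroup.normalClosure (T hF v) = ⊤ := by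
  apply normal_eq_top hF hn h32
  intro hle
  obtain ⟨w, hw, hvw⟩ := exists_partner hF hv0 hv
  have hwv : hermForm n F q w v = 1 := by rw [herm_swap hF v w, hvw, one_pow]
  obtain ⟨κ, hκ0, hκ⟩ := exists_trace_zero_ne hF
  have h1 : siegel hF v 0 κ (isS hF hv hκ) ∈ Subgroup.center (SU n F q) :=
    hle (Subgroup.subset_normalClosure ⟨κ, isS hF hv hκ, rfl⟩)
  have h2 := Subgroup.mem_center_iff.1 h1 (siegel hF w 0 κ (isS hF hw hκ))
  have h3 := congrArg (fun g => act g v) h2
  simp only [act_mul, act_siegel, herm_zero_right hF, herm_add_left, herm_smul_left, hv, hvw, hwv,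
    mul_zero, sub_zero, zero_smul, add_zero, smul_zero, mul_one, zero_add] at h3
  have h4 : (κ * κ) • v = 0 := by
    have h6 : v + κ • w + (κ * κ) • v = v + κ • w := h3.symm
    rwa [add_eq_left] at h6
  rcases smul_eq_zero.1 h4 with h5 | h5
  · exact hκ0 (mul_self_eq_zero.1 h5)
  · exact hv0 h5

/-- the root group bound for `SU` -/
theorem fpr_T (hF : Fintype.card F = q ^ 2) (hn : 3 ≤ n) (h4 : 4 ≤ q) {v : Fin n → F}
    (hv0 : v ≠ 0) (hv : hermForm n F q v v = 0)
    (hq : 2 * (Nat.log 2 (Nat.card (SU n F q)) + 1) * n ≤ q)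
    (Ω : Type*) [Finite Ω] [MulAction (SU n F q) Ω] (hΩ : ∀ ω : Ω, ∃ g : SU n F q, g • ω ≠ ω) :
    fpr Ω (T hF v) ≤ 2 * ((Nat.log 2 (Nat.card (SU n F q)) + 1 : ℕ) : ℝ) / q := by
  obtain ⟨η, hη0, hη⟩ := exists_trace_zero_ne hF
  have hη2 : η ^ q = -η := (neg_eq_of_add_eq_zero_right hη).symm
  have h1 := root_bound (K := K0 hF) (T hF v) (normalClosure_T hF hn (by omega) hv0 hv)
    {u : SU n F q | hermForm n F q (act u v) v ≠ 0} ?_ ?_ Ω hΩ
  · rwa [card_K0] at h1
  · have h2 := card_bad_le hF hv0 hv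
    have h3 : ({u : SU n F q | hermForm n F q (act u v) v ≠ 0}ᶜ : Set (SU n F q)) =
        {u : SU n F q | hermForm n F q (act u v) v = 0} := by
      ext u
      simp
    rw [h3]
    set N := Nat.card {u : SU n F q | hermForm n F q (act u v) v = 0}
    set k := Nat.log 2 (Nat.card (SU n F q)) + 1
    have h5 : n * (2 * k * N) ≤ n * Nat.card (SU n F q) := by
      calc n * (2 * k * N) = (2 * k * n) * N := by ring
        _ ≤ q * N := Nat.mul_le_mul_right N hq
        _ ≤ n * Nat.card (SU n F q) := h2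
    exact Nat.le_of_mul_le_mul_left h5 (by omega)
  · intro u hu
    have hu' : hermForm n F q (act u v) v ≠ 0 := hu
    set c := (hermForm n F q (act u v) v)⁻¹ with hc
    have hc0 : c ≠ 0 := inv_ne_zero hu'
    have hP : Pair q (c • act u v) v := by
      refine ⟨?_, hv, ?_⟩
      · rw [herm_smul_left, herm_smul_right, herm_act, hv, mul_zero, mul_zero]
      · rw [herm_smul_left, hc, inv_mul_cancel₀ hu']
    refine ⟨phi hF hη0 hη2 hP h4, mem_T_lo hF hη0 hη2 hP h4, fun x => ?_⟩
    rw [T_conj, ← T_smul hF hc0]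
    exact mem_T_up hF hη0 hη2 hP h4 x

/-- the product of nontrivial upper and lower unitriangular matrices is not central -/
theorem not_central {K : Type*} [Field K] {a b : K} (ha : a ≠ 0) :
    up a * lo b ∉ Subgroup.center (Matrix.SpecialLinearGroup (Fin 2) K) := by
  intro h
  have h1 := Subgroup.mem_center_iff.1 h (lo 1)
  have h2 := congrArg (fun g => g.1 0 0) h1
  simp only [Matrix.SpecialLinearGroup.coe_mul, Matrix.mul_apply, Fin.sum_univ_two] at h2
  simp [lo, up] at h2
  exact ha h2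

/-- upper unitriangular matrices as a homomorphism -/
def upH (K : Type*) [Field K] : Multiplicative K →* Matrix.SpecialLinearGroup (Fin 2) K where
  toFun c := up (Multiplicative.toAdd c)
  map_one' := by
    apply Subtype.ext
    show !![1, 0; (0 : K), 1] = (1 : Matrix (Fin 2) (Fin 2) K)
    rw [Matrix.one_fin_two]
  map_mul' a b := by
    apply Subtype.ext
    show !![1, Multiplicative.toAdd a + Multiplicative.toAdd b; 0, 1] =
      !![1, Multiplicative.toAdd a; 0, 1] * !![1, Multiplicative.toAdd b; 0, 1]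
    rw [Matrix.mul_fin_two]
    simp [add_comm]

/-- the bound for one element -/
theorem fpr_four (hF : Fintype.card F = q ^ 2) (hn : 3 ≤ n) (h4 : 4 ≤ q)
    (hq : 2 * (Nat.log 2 (Nat.card (SU n F q)) + 1) * n ≤ q) {x : SU n F q}
    (hx : x ∉ Subgroup.center (SU n F q))
    (Ω : Type) [Finite Ω] [MulAction (SU n F q) Ω] (hΩ : ∀ ω : Ω, ∃ g : SU n F q, g • ω ≠ ω) :
    fpr Ω {x} ^ 4 ≤ 2 * (2 * ((Nat.log 2 (Nat.card (SU n F q)) + 1 : ℕ) : ℝ) / q + 7 / √(q : ℝ)) + 10 / (q : ℝ) := by
  have := Fintype.ofFinite (K0 hF)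
  have hcardK : Fintype.card (K0 hF) = q := by rw [← Nat.card_eq_fintype_card, card_K0]
  obtain ⟨η, hη0, hη⟩ := exists_trace_zero_ne hF
  have hη2 : η ^ q = -η := (neg_eq_of_add_eq_zero_right hη).symm
  obtain ⟨v, hv, hne⟩ : ∃ v : Fin n → F, hermForm n F q v v = 0 ∧ ¬ ∃ c : F, act x v = c • v := by
    by_contra hcon
    push Not at hcon
    obtain ⟨d, hd⟩ := scalar_of_fix_iso hF hn (g := x) hcon
    exact hx (mem_center_of_scalar hd)
  have hv0 : v ≠ 0 := by
    rintro rfl
    exact hne ⟨0, by rw [act_zero, smul_zero]⟩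
  have hv'0 : act x v ≠ 0 := fun h => hv0 ((act_eq_zero x).1 h)
  have hv' : hermForm n F q (act x v) (act x v) = 0 := by rw [herm_act, hv]
  set δ := 2 * ((Nat.log 2 (Nat.card (SU n F q)) + 1 : ℕ) : ℝ) / q + 7 / √(q : ℝ) with hδ
  have hδ0 : 0 ≤ δ := by positivity
  have hqpos : (0 : ℝ) < q := by exact_mod_cast (by omega : 0 < q)
  have hT := fpr_T hF hn h4 hv0 hv hq Ω hΩ
  by_cases horth : hermForm n F q (act x v) v = 0
  · -- orthogonal case
    obtain ⟨w, hw, hxw⟩ := exists_pair hF hv0 hv hv'0 (herm_eq_zero_swap hF horth) hne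
    have h1 := fpr_of_commute Ω (phi hF hη0 hη2 hw h4) x ?_ hδ0 ?_
    · rwa [card_K0] at h1
    · intro c y
      rw [phi_lo, conj_siegel]
      set t := siegel hF (act x v) (act x 0) (η * (c : F)) _ with ht
      have h5 : phi hF hη0 hη2 hw h4 y * t * (phi hF hη0 hη2 hw h4 y)⁻¹ = t := by
        rw [ht, conj_siegel]
        apply siegel_congr hF _ _ _ _ rfl
        · rw [act_phi, horth, hxw]
          simp
        · rw [act_zero, act_zero]
      exact (mul_inv_eq_iff_eq_mul.1 h5).symm
    · intro z hz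
      refine (fpr_sl2_hom (by rw [hcardK]; exact h4) (phi hF hη0 hη2 hw h4) hz).trans ?_
      rw [hcardK, hδ]
      gcongr
      refine (fpr_anti Ω ?_).trans hT
      intro g hg
      obtain ⟨c, rfl⟩ := (mem_T_lo hF hη0 hη2 hw h4 g).1 hg
      exact ⟨_, rfl⟩
  · -- opposite case
    set c := (hermForm n F q (act x v) v)⁻¹ with hc
    have hc0 : c ≠ 0 := inv_ne_zero horth
    have hP : Pair q (c • act x v) v := by
      refine ⟨?_, hv, ?_⟩
      · rw [herm_smul_left, herm_smul_right, herm_act, hv, mul_zero, mul_zero]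
      · rw [herm_smul_left, hc, inv_mul_cancel₀ horth]
    have h1 := cs_comm_hom Ω ((phi hF hη0 hη2 hP h4).comp (loH (K0 hF))) x {1} δ hδ0 ?_
    · have h2 : (Nat.card ({1} : Set (Multiplicative (K0 hF))) : ℝ) = 1 := by simp
      have h3 : (Nat.card (Multiplicative (K0 hF)) : ℝ) = q := by
        rw [Nat.card_congr Multiplicative.toAdd, card_K0]
      rw [h2, h3] at h1
      have h5 := fpr_nonneg Ω ({x} : Set (SU n F q))
      have h6 := fpr_le_one Ω ({x} : Set (SU n F q))
      have h7 : fpr Ω {x} ^ 4 ≤ fpr Ω {x} ^ 2 := pow_le_pow_of_le_one h5 h6 (by norm_num)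
      have h8 : 1 / (q : ℝ) ≤ 10 / q := by gcongr; norm_num
      linarith
    · intro y hy
      have hy0 : Multiplicative.toAdd y ≠ 0 := fun h => hy h
      set b := Multiplicative.toAdd y with hb
      have e0 : ((phi hF hη0 hη2 hP h4).comp (loH (K0 hF))) y = phi hF hη0 hη2 hP h4 (lo b) := rfl
      rw [e0]
      -- the conjugate lies in the other root group
      have h5 : x * phi hF hη0 hη2 hP h4 (lo b) * x⁻¹ ∈ T hF (c • act x v) := by
        rw [T_smul hF hc0, ← T_conj]
        exact ⟨_, (mem_T_lo hF hη0 hη2 hP h4 _).2 ⟨b, rfl⟩, rfl⟩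
      obtain ⟨a, ha⟩ := (mem_T_up hF hη0 hη2 hP h4 _).1 h5
      have ha0 : a ≠ 0 := by
        rintro rfl
        have h6 : (up 0 : Matrix.SpecialLinearGroup (Fin 2) (K0 hF)) = 1 := map_one (upH (K0 hF))
        rw [h6, map_one] at ha
        have h7 : phi hF hη0 hη2 hP h4 (lo b) = 1 := by
          have := congrArg (fun g => x⁻¹ * g * x) ha
          simp only [mul_one, inv_mul_cancel] at this
          rw [eq_comm] at this
          have h8 : x⁻¹ * (x * phi hF hη0 hη2 hP h4 (lo b) * x⁻¹) * x = phi hF hη0 hη2 hP h4 (lo b) := by group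
          rwa [h8] at this
        have h8 := congrArg (fun g => act g (c • act x v)) h7
        simp only [act_phi, act_one] at h8
        have e1 : ((lo b).1 0 0 : K0 hF) = 1 := rfl
        have e2 : ((lo b).1 0 1 : K0 hF) = 0 := rfl
        have e3 : ((lo b).1 1 0 : K0 hF) = b := rfl
        have e4 : ((lo b).1 1 1 : K0 hF) = 1 := rfl
        rw [e1, e2, e3, e4, hP.hvw, hP.hv] at h8
        simp at h8
        rcases h8 with (h8 | h8) | h8
        · exact hη0 h8
        · exact hy0 h8
        · exact hv0 h8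
      have e1 : x * (phi hF hη0 hη2 hP h4 (lo b) * x⁻¹ * (phi hF hη0 hη2 hP h4 (lo b))⁻¹) =
          phi hF hη0 hη2 hP h4 (up a * lo (-b)) := by
        rw [map_mul, ← lo_inv, map_inv, ha]
        group
      rw [e1]
      refine (fpr_sl2_hom (by rw [hcardK]; exact h4) (phi hF hη0 hη2 hP h4) (not_central ha0)).trans ?_
      rw [hcardK, hδ]
      gcongr
      refine (fpr_anti Ω ?_).trans hT
      intro g hg
      obtain ⟨c, rfl⟩ := (mem_T_lo hF hη0 hη2 hP h4 g).1 hg
      exact ⟨_, rfl⟩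

theorem card_SU_le : Nat.card (SU n F q) ≤ Fintype.card F ^ n ^ 2 := by
  have h1 : Nat.card (SU n F q) ≤ Nat.card (Matrix (Fin n) (Fin n) F) :=
    Nat.card_le_card_of_injective mat mat_injective
  refine h1.trans (le_of_eq ?_)
  show Nat.card (Fin n → Fin n → F) = _
  rw [Nat.card_fun, Nat.card_fun, Nat.card_eq_fintype_card, Nat.card_fin, ← pow_mul, sq]

theorem br_su : BR_SU := by
  intro n₀
  obtain ⟨C, hC0, hC⟩ := num (2 * n₀ ^ 2) n₀
  refine ⟨C, hC0, ?_⟩
  intro F _ _ n q hF hn hn0 h32 x hx Ω _ _ hΩ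
  have hq1 : 1 ≤ q := q_pos hF
  have h1 := hC q (Nat.card (SU n F q)) (fpr Ω {x}) hq1 Nat.card_pos ?_ (fpr_nonneg Ω _) (fpr_le_one Ω _) ?_
  · have h2 : (Fintype.card F : ℝ) = (q : ℝ) ^ 2 := by rw [hF]; push_cast; rfl
    rw [h2]
    exact h1
  · refine card_SU_le.trans ?_
    rw [hF, ← pow_mul]
    apply Nat.pow_le_pow_right hq1
    gcongr
  · intro h4 hq
    refine fpr_four hF hn h4 ?_ hx Ω hΩ
    refine le_trans ?_ hq
    gcongr

end Cfsg.Agent.H830.B57.RootSU
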