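import Cfsg.Agent.H830.B57.AllRows

/-!
# S5717: the theorem from the rows of the simple groups and the primitive linear groups
-/

set_option autoImplicit false

open Subgroup

namespace Cfsg.Agent.H830.B57

open Cfsg.Agent.H254.BS.PI

theorem LinPrim.mono {d a b : ℕ} (h : LinPrim d a) (hab : a ≤ b) : LinPrim d b := by
  intro p _ V _ _ _ X hX hno
  obtain ⟨B, hB, hB2⟩ := h p V X hX hno
  exact ⟨B, hB.trans hab, hB2⟩

/-- the assertion of the linear part (helper457) -/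
def LinPart : Prop :=
  ∃ K : ℕ, ∀ d k : ℕ,
    (∀ (T : Type) [Group T] [Finite T] [IsSimpleGroup T], (∃ x y : T, x * y ≠ y * x) →
      ¬ Cfsg.Involves (alternatingGroup (Fin d)) T → TBase T k) → LinPrim d (k + K)

theorem top
    (hcl : ∀ (T : Type) [Group T] [Finite T] [IsSimpleGroup T], Cfsg.IsKnownSimple' T)
    (h2 : ∀ (T : Type) [Group T] [Finite T] [IsSimpleGroup T], ∃ u v : T, closure {u, v} = ⊤)
    (r1 : Rows (fun T _ => Cfsg.IsPSL T)) (r2 : Rows (fun T _ => Cfsg.IsPSp T))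
    (r3 : Rows (fun T _ => Cfsg.IsPSU T)) (r4 : Rows (fun T _ => Cfsg.IsPOmegaOdd T))
    (r5 : Rows (fun T _ => Cfsg.IsPOmegaPlus T)) (r6 : Rows (fun T _ => Cfsg.IsPOmegaMinus T))
    (r7 : Rows (fun T _ => Cfsg.IsExceptionalLieType T))
    (r8 : Rows (fun T _ => Cfsg.IsSporadicGroup T)) (hlin : LinPart) :
    ∃ c : ℕ, ∀ (d : ℕ), 5 ≤ d → ∀ (G Ω : Type*) [Group G] [Finite G] [MulAction G Ω]
      [FaithfulSMul G Ω] [Fintype Ω], MulAction.IsPreprimitive G Ω →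
      ¬ Cfsg.Involves (alternatingGroup (Fin d)) G →
      ∃ B : Finset Ω, B.card ≤ c * d ∧ ∀ g : G, (∀ b ∈ B, g • b = b) → g = 1 := by
  obtain ⟨C, hC⟩ := all_tbase hcl r1 r2 r3 r4 r5 r6 r7 r8
  obtain ⟨K, hK⟩ := hlin
  refine ⟨2 * C + 2 * (C + K) + 20, ?_⟩
  intro d hd G Ω _ _ _ _ _ hp hG
  refine transfer (c := 2 * C + 2 * (C + K) + 20) ?_ d hd G Ω hp hG
  intro d hd G Ω _ _ _ _ hp hG
  refine main2 C (C + K) h2 hC (fun d hd => ?_) d hd G Ω hp hG
  refine (hK d (C * d) (fun T _ _ _ h3 h4 => hC d hd T h3 h4)).mono ?_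
  calc C * d + K ≤ C * d + K * d := by
        apply Nat.add_le_add_left
        exact Nat.le_mul_of_pos_right _ (by omega)
    _ = (C + K) * d := by ring

end Cfsg.Agent.H830.B57
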