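import Cfsg.Agent.H830.B57.Inv

/-!
# S5717: final assembly of the reductions
-/

set_option autoImplicit false

open Subgroup

namespace Cfsg.Agent.H830.B57

theorem clog_le {x : ℕ} (hx : 64 ≤ x) : Nat.clog 2 (2 * x + 2) ≤ x / 8 := by
  apply (Nat.clog_le_iff_le_pow (by norm_num)).2
  have h1 : ∀ y : ℕ, 8 ≤ y → 16 * y + 16 ≤ 2 ^ y := by
    intro y hy
    induction y, hy using Nat.le_induction with
    | base => norm_num
    | succ n hn ih =>
      rw [pow_succ]
      omega
  have h2 := h1 (x / 8) (by omega)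
  omega

/-- the hypotheses of the nonaffine reduction -/
def NonAff : Prop :=
  ∀ (d k b : ℕ), 5 ≤ d →
    (∀ (T : Type) [Group T] [Finite T] [IsSimpleGroup T], ∃ u v : T, closure {u, v} = ⊤) →
    (∀ (T : Type) [Group T] [Finite T] [IsSimpleGroup T], (∃ x y : T, x * y ≠ y * x) →
      ¬ Cfsg.Involves (alternatingGroup (Fin d)) T → TBase T k) →
    ∀ (G Ω : Type) [Group G] [Finite G] [MulAction G Ω] [FaithfulSMul G Ω] [Finite Ω],
    MulAction.IsPreprimitive G Ω → ¬ Cfsg.Involves (alternatingGroup (Fin d)) G →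
    ∀ (N : Subgroup G) [N.Normal], (∀ M : Subgroup G, M.Normal → M ≤ N → M = ⊥ ∨ M = N) →
    (¬ ∀ x ∈ N, ∀ y ∈ N, Commute x y) →
    (∀ (L Δ : Type) [Group L] [Finite L] [MulAction L Δ] [Finite Δ] (f : L →* G),
      Function.Injective f → MulAction.IsPreprimitive L Δ → Nontrivial Δ →
      Nat.card Δ < Nat.card Ω → BaseLE L Δ b) →
    BaseLE G Ω (k + 4 + 2 * Nat.clog 2 (2 * b + 2))

/-- the hypotheses of the affine reduction -/
def Aff : Prop :=
  ∀ (d b1 b : ℕ), LinPrim d b1 →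
    ∀ (G Ω : Type) [Group G] [Finite G] [MulAction G Ω] [FaithfulSMul G Ω] [Finite Ω],
    MulAction.IsPreprimitive G Ω → ¬ Cfsg.Involves (alternatingGroup (Fin d)) G →
    ∀ (N : Subgroup G) [N.Normal], N ≠ ⊥ →
    (∀ M : Subgroup G, M.Normal → M ≤ N → M = ⊥ ∨ M = N) →
    (∀ x ∈ N, ∀ y ∈ N, Commute x y) →
    (∀ (L Δ : Type) [Group L] [Finite L] [MulAction L Δ] [Finite Δ] (f : L →* G),
      Function.Injective f → MulAction.IsPreprimitive L Δ → Nontrivial Δ →
      Nat.card Δ < Nat.card Ω → BaseLE L Δ b) →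
    BaseLE G Ω (1 + b1 + Nat.clog 2 (2 * b + 2))

theorem exists_min {G : Type} [Group G] [Finite G] (hne : ∃ g : G, g ≠ 1) :
    ∃ N : Subgroup G, N.Normal ∧ N ≠ ⊥ ∧ ∀ M : Subgroup G, M.Normal → M ≤ N → M = ⊥ ∨ M = N := by
  have hfin : {M : Subgroup G | M.Normal ∧ M ≠ ⊥}.Finite := Set.toFinite _
  have hnon : {M : Subgroup G | M.Normal ∧ M ≠ ⊥}.Nonempty := by
    obtain ⟨g, hg⟩ := hne
    exact ⟨⊤, inferInstance, fun h => hg ((eq_bot_iff_forall _).1 h g (mem_top g))⟩
  obtain ⟨N, hN⟩ := hfin.exists_minimal hnon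
  refine ⟨N, hN.1.1, hN.1.2, ?_⟩
  intro M hM hMN
  by_cases hb : M = ⊥
  · exact Or.inl hb
  · right
    exact le_antisymm hMN (hN.2 ⟨hM, hb⟩ hMN)

theorem main_of (C1 C2 : ℕ)
    (h2 : ∀ (T : Type) [Group T] [Finite T] [IsSimpleGroup T], ∃ u v : T, closure {u, v} = ⊤)
    (hT : ∀ d : ℕ, 5 ≤ d → ∀ (T : Type) [Group T] [Finite T] [IsSimpleGroup T],
      (∃ x y : T, x * y ≠ y * x) → ¬ Cfsg.Involves (alternatingGroup (Fin d)) T →
      TBase T (C1 * d))
    (hL : ∀ d : ℕ, 5 ≤ d → LinPrim d (C2 * d)) (hna : NonAff) (ha : Aff) (d : ℕ) (hd : 5 ≤ d) :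
    ∀ (n : ℕ) (G Ω : Type) [Group G] [Finite G] [MulAction G Ω] [Finite Ω],
      Nat.card Ω = n → MulAction.IsPreprimitive G Ω →
      ¬ Cfsg.Involves (alternatingGroup (Fin d)) G →
      BaseLE G Ω ((2 * C1 + 2 * C2 + 20) * d) := by
  intro n
  induction n using Nat.strong_induction_on with
  | _ n ih =>
  intro G Ω _ _ _ _ hn hp hG
  classical
  set c := 2 * C1 + 2 * C2 + 20 with hc
  -- the image in the symmetric group
  let P : Subgroup (Equiv.Perm Ω) := (MulAction.toPermHom G Ω).range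
  let r : G →* P := (MulAction.toPermHom G Ω).rangeRestrict
  have hr : Function.Surjective r := (MulAction.toPermHom G Ω).rangeRestrict_surjective
  have hact : ∀ (g : G) (x : Ω), r g • x = g • x := fun g x => rfl
  have hfaith : FaithfulSMul P Ω := inferInstance
  have hpP : MulAction.IsPreprimitive P Ω := by
    have hmap : Function.Surjective (r : G → P) := hr
    let f : Ω →ₑ[(r : G → P)] Ω := { toFun := id, map_smul' := fun g x => (hact g x).symm }
    exact MulAction.IsPreprimitive.of_surjective (f := f) Function.surjective_id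
  have hGP : ¬ Cfsg.Involves (alternatingGroup (Fin d)) P := fun h =>
    hG (involves_of_surjective r hr h)
  have hfinP : Finite P := inferInstance
  -- it suffices to find a base for the image
  suffices hb : BaseLE P Ω (c * d) by
    obtain ⟨B, hB1, hB2⟩ := hb
    refine ⟨B, hB1, ?_⟩
    intro g hg x
    have h1 := hB2 (r g) (fun y hy => (hact g y).trans (hg y hy)) x
    rw [hact] at h1
    exact h1
  by_cases hne : ∃ g : P, g ≠ 1
  swap
  · push Not at hne
    exact ⟨∅, by simp, fun g _ x => by rw [hne g, one_smul]⟩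
  have ihP : ∀ (L Δ : Type) [Group L] [Finite L] [MulAction L Δ] [Finite Δ] (f : L →* P),
      Function.Injective f → MulAction.IsPreprimitive L Δ → Nontrivial Δ →
      Nat.card Δ < Nat.card Ω → BaseLE L Δ (c * d) := by
    intro L Δ _ _ _ _ f hf hL' _ hlt
    exact ih (Nat.card Δ) (hn ▸ hlt) L Δ rfl hL' (fun h => hGP (involves_of_injective f hf h))
  obtain ⟨N, hNn, hNb, hmin⟩ := exists_min hne
  have hx : 64 ≤ c * d := by nlinarith
  have hcl := clog_le hx
  have hcd : c * d = 2 * (C1 * d) + 2 * (C2 * d) + 20 * d := by rw [hc]; ring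
  by_cases hab : ∀ x ∈ N, ∀ y ∈ N, Commute x y
  · refine (ha d (C2 * d) (c * d) (hL d hd) P Ω hpP hGP N hNb hmin hab ihP).mono ?_
    omega
  · refine (hna d (C1 * d) (c * d) hd h2 (fun T _ _ _ h1 h3 => hT d hd T h1 h3) P Ω hpP hGP N hmin
      hab ihP).mono ?_
    omega

end Cfsg.Agent.H830.B57
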