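import Cfsg.Agent.H830.B57.Union
import Cfsg.Prelude.Def_KGroupFacts

/-!
# S5717: fixed point ratios with support imply linear base size (`TBase`)
-/

set_option autoImplicit false

open Subgroup Finset

namespace Cfsg.Agent.H830.B57

/-- fixed point ratios `≤ q^(-ν/C)`, at most `q^(C N (s+1))` elements with `ν = s` -/
structure Strg (C q N : ℕ) (T : Type) [Group T] (ν : T → ℕ) : Prop where
  one : ∀ x : T, x ≠ 1 → 1 ≤ ν x
  count : ∀ s, Nat.card {x : T // ν x = s} ≤ q ^ (C * N * (s + 1))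
  fix : ∀ x : T, x ≠ 1 → ∀ K : Subgroup T, K ≠ ⊤ → fi x K ^ C * q ^ ν x ≤ C * Nat.card T ^ C
  triv : ∀ x : T, x ≠ 1 → ∀ K : Subgroup T, K ≠ ⊤ → C * fi x K ≤ (C - 1) * Nat.card T
  card : Nat.card T ≤ q ^ (C * N * N)

section

variable {T : Type} [Group T]

theorem fi_le [Finite T] (x : T) (K : Subgroup T) : fi x K ≤ Nat.card T :=
  Nat.card_le_card_of_injective (fun t : {t : T // t⁻¹ * x * t ∈ K} => t.1) Subtype.val_injective

theorem fn_le [Finite T] (a : MulAut T) (K : Subgroup T) : fn a K ≤ Nat.card T :=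
  Nat.card_le_card_of_injective (fun t : {t : T // t⁻¹ * a t ∈ K} => t.1) Subtype.val_injective

/-- inner union bound -/
theorem inner_tuple [Finite T] {C q N : ℕ} (hC : 2 ≤ C) (hq : 2 ≤ q) (hN : 1 ≤ N) {ν : T → ℕ}
    (h : Strg C q N T ν) (K : Subgroup T) (hK : K ≠ ⊤) :
    ∃ t : Fin ((C ^ 2 * (4 * C + 4) + 2 * C * (2 * C + 2)) * N) → T,
      ∀ y : T, y ≠ 1 → ∃ j, ¬ (t j)⁻¹ * y * t j ∈ K := by
  classical
  have := Fintype.ofFinite T
  set c0 := C ^ 2 * (4 * C + 4) + 2 * C * (2 * C + 2) with hc0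
  have hTpos : (0 : ℝ) < Nat.card T := by exact_mod_cast Nat.card_pos
  have hqR : (2 : ℝ) ≤ q := by exact_mod_cast hq
  have hqpos : (0 : ℝ) < q := by linarith
  have key := exists_tuple (A := T) (Ω := T) (Finset.univ.filter fun y => y ≠ 1)
    (fun y t => t⁻¹ * y * t ∈ K) (c0 * N) ?_
  · obtain ⟨w, hw⟩ := key
    exact ⟨w, fun y hy => hw y (Finset.mem_filter.2 ⟨Finset.mem_univ _, hy⟩)⟩
  -- the estimate for one element
  have hone : ∀ y : T, y ≠ 1 → (fi y K : ℝ) ^ (c0 * N) ≤
      (Nat.card T : ℝ) ^ (c0 * N) * ((q : ℝ) ^ (ν y * (2 * C + 2) * N))⁻¹ := by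
    intro y hy
    set F : ℝ := fi y K / Nat.card T with hF
    have hF0 : 0 ≤ F := by positivity
    have hx : (2 : ℝ) ≤ (q : ℝ) ^ ν y := by
      calc (2 : ℝ) ≤ q := hqR
        _ = (q : ℝ) ^ 1 := (pow_one _).symm
        _ ≤ (q : ℝ) ^ ν y := pow_le_pow_right₀ (by linarith) (h.one y hy)
    have h1 : F ^ C * (q : ℝ) ^ ν y ≤ C := by
      rw [hF, div_pow, div_mul_eq_mul_div, div_le_iff₀ (by positivity)]
      exact_mod_cast h.fix y hy K hK
    have h2 : C * F ≤ C - 1 := by
      rw [hF, mul_div_assoc', div_le_iff₀ hTpos]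
      have h3 := h.triv y hy K hK
      have h4 : ((C * fi y K : ℕ) : ℝ) ≤ (((C - 1) * Nat.card T : ℕ) : ℝ) := by exact_mod_cast h3
      rw [Nat.cast_mul, Nat.cast_mul, Nat.cast_sub (by omega), Nat.cast_one] at h4
      exact h4
    have h3 := num1 C hC F _ hF0 hx h1 h2
    rw [← hc0] at h3
    have h4 : (F ^ c0 * ((q : ℝ) ^ ν y) ^ (2 * C + 2)) ^ N ≤ 1 := pow_le_one₀ (by positivity) h3
    rw [mul_pow, ← pow_mul, ← pow_mul, ← pow_mul, hF, div_pow, div_mul_eq_mul_div,
      div_le_one (by positivity)] at h4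
    rw [← div_eq_mul_inv, le_div_iff₀ (by positivity), mul_assoc (ν y)]
    exact h4
  -- the sum
  have hsum : ∑ y ∈ Finset.univ.filter (fun y : T => y ≠ 1), (fi y K : ℝ) ^ (c0 * N) ≤
      (Nat.card T : ℝ) ^ (c0 * N) * (1 / 3) := by
    calc ∑ y ∈ Finset.univ.filter (fun y : T => y ≠ 1), (fi y K : ℝ) ^ (c0 * N)
        ≤ ∑ y ∈ Finset.univ.filter (fun y : T => y ≠ 1),
          (Nat.card T : ℝ) ^ (c0 * N) * ((q : ℝ) ^ (ν y * (2 * C + 2) * N))⁻¹ :=
          Finset.sum_le_sum fun y hy => hone y (Finset.mem_filter.1 hy).2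
      _ = (Nat.card T : ℝ) ^ (c0 * N) * ∑ y ∈ Finset.univ.filter (fun y : T => y ≠ 1),
          ((q : ℝ) ^ (ν y * (2 * C + 2) * N))⁻¹ := by rw [Finset.mul_sum]
      _ ≤ (Nat.card T : ℝ) ^ (c0 * N) * (1 / 3) := by
          gcongr
          rw [Finset.sum_comp (fun s : ℕ => ((q : ℝ) ^ (s * (2 * C + 2) * N))⁻¹) ν]
          refine le_trans (Finset.sum_le_sum (g := fun s => ((1 : ℝ) / 4) ^ s) ?_) (geo _ ?_)
          · intro s hs
            have hs1 : 1 ≤ s := by
              obtain ⟨y, hy, rfl⟩ := Finset.mem_image.1 hs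
              exact h.one y (Finset.mem_filter.1 hy).2
            have hcard : ((Finset.univ.filter (fun y : T => y ≠ 1)).filter
                (fun y => ν y = s)).card ≤ q ^ (C * N * (s + 1)) := by
              refine le_trans ?_ (h.count s)
              rw [Nat.card_eq_fintype_card, Fintype.card_subtype]
              apply Finset.card_le_card
              intro y hy
              exact Finset.mem_filter.2 ⟨Finset.mem_univ _, (Finset.mem_filter.1 hy).2⟩
            rw [nsmul_eq_mul, ← div_eq_mul_inv, div_le_iff₀ (by positivity)]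
            have e1 : ((((Finset.univ.filter (fun y : T => y ≠ 1)).filter
                (fun y => ν y = s)).card : ℕ) : ℝ) ≤ (q : ℝ) ^ (C * N * (s + 1)) := by
              exact_mod_cast hcard
            refine e1.trans ?_
            have e2 : (4 : ℝ) ^ s ≤ (q : ℝ) ^ (2 * s * N) := by
              calc (4 : ℝ) ^ s = (2 : ℝ) ^ (2 * s) := by rw [pow_mul]; norm_num
                _ ≤ (q : ℝ) ^ (2 * s) := by gcongr
                _ ≤ (q : ℝ) ^ (2 * s * N) := by
                    apply pow_le_pow_right₀ (by linarith)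
                    exact Nat.le_mul_of_pos_right _ (by omega)
            have e3 : (q : ℝ) ^ (C * N * (s + 1)) * (4 : ℝ) ^ s ≤
                (q : ℝ) ^ (s * (2 * C + 2) * N) := by
              calc (q : ℝ) ^ (C * N * (s + 1)) * (4 : ℝ) ^ s
                  ≤ (q : ℝ) ^ (C * N * (s + 1)) * (q : ℝ) ^ (2 * s * N) := by gcongr
                _ = (q : ℝ) ^ (C * N * (s + 1) + 2 * s * N) := by rw [pow_add]
                _ ≤ (q : ℝ) ^ (s * (2 * C + 2) * N) := by
                    apply pow_le_pow_right₀ (by linarith)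
                    have : s + 1 ≤ 2 * s := by omega
                    calc C * N * (s + 1) + 2 * s * N ≤ C * N * (2 * s) + 2 * s * N := by gcongr
                      _ = s * (2 * C + 2) * N := by ring
            rw [one_div, inv_pow]
            rw [← div_eq_inv_mul, le_div_iff₀ (by positivity)]
            exact e3
          · intro s hs
            obtain ⟨y, hy, rfl⟩ := Finset.mem_image.1 hs
            exact h.one y (Finset.mem_filter.1 hy).2
  have hlt : ∑ y ∈ Finset.univ.filter (fun y : T => y ≠ 1), (fi y K : ℝ) ^ (c0 * N) <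
      (Nat.card T : ℝ) ^ (c0 * N) := by
    refine lt_of_le_of_lt hsum ?_
    have : (0 : ℝ) < (Nat.card T : ℝ) ^ (c0 * N) := by positivity
    linarith
  exact_mod_cast hlt

/-- Cauchy-Schwarz for an automorphism: `|S|² = Σ_g |S ∩ gS|` -/
theorem outer_sq [Finite T] (a : MulAut T) (K : Subgroup T) (M : ℕ)
    (hM : ∀ y : T, y ≠ 1 → fi y K ≤ M) :
    fn a K ^ 2 ≤ Nat.card {t : T // a t = t} * Nat.card T + Nat.card T * M := by
  classical
  have := Fintype.ofFinite T
  let S : Finset T := Finset.univ.filter fun t => t⁻¹ * a t ∈ K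
  have hS : fn a K = S.card := by
    rw [fn, Nat.card_eq_fintype_card, Fintype.card_subtype]
  have h1 : S.card ^ 2 = ∑ g : T, (S.filter fun t => g⁻¹ * t ∈ S).card := by
    have e1 : S.card ^ 2 = (S ×ˢ S).card := by rw [Finset.card_product, sq]
    have e2 : ∑ g : T, (S.filter fun t => g⁻¹ * t ∈ S).card =
        (Finset.univ.sigma fun g : T => S.filter fun t => g⁻¹ * t ∈ S).card := by
      rw [Finset.card_sigma]
    rw [e1, e2]
    refine Finset.card_bij (fun p _ => ⟨p.1 * p.2⁻¹, p.1⟩) ?_ ?_ ?_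
    · intro p hp
      rw [Finset.mem_product] at hp
      refine Finset.mem_sigma.2 ⟨Finset.mem_univ _, Finset.mem_filter.2 ⟨hp.1, ?_⟩⟩
      have : (p.1 * p.2⁻¹)⁻¹ * p.1 = p.2 := by group
      rw [this]
      exact hp.2
    · intro p _ p' _ he
      have h2 : p.1 = p'.1 := congrArg Sigma.snd he
      have h3 : p.1 * p.2⁻¹ = p'.1 * p'.2⁻¹ := congrArg Sigma.fst he
      rw [h2] at h3
      exact Prod.ext h2 (inv_injective (mul_left_cancel h3))
    · rintro ⟨g, t⟩ hgt
      rw [Finset.mem_sigma, Finset.mem_filter] at hgt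
      refine ⟨(t, g⁻¹ * t), Finset.mem_product.2 ⟨hgt.2.1, hgt.2.2⟩, ?_⟩
      have : t * (g⁻¹ * t)⁻¹ = g := by group
      simp
  have h2 : ∀ g : T, (S.filter fun t => g⁻¹ * t ∈ S).card ≤ fi (g * (a g)⁻¹) K := by
    intro g
    rw [fi, Nat.card_eq_fintype_card, Fintype.card_subtype]
    apply Finset.card_le_card
    intro t ht
    rw [Finset.mem_filter] at ht
    refine Finset.mem_filter.2 ⟨Finset.mem_univ _, ?_⟩
    have h3 := (Finset.mem_filter.1 ht.1).2
    have h4 := (Finset.mem_filter.1 ht.2).2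
    have h5 : t⁻¹ * (g * (a g)⁻¹) * t = ((g⁻¹ * t)⁻¹ * a (g⁻¹ * t)) * (t⁻¹ * a t)⁻¹ := by
      rw [map_mul, map_inv]; group
    rw [h5]
    exact K.mul_mem h4 (K.inv_mem h3)
  rw [hS, h1]
  calc ∑ g : T, (S.filter fun t => g⁻¹ * t ∈ S).card
      ≤ ∑ g : T, fi (g * (a g)⁻¹) K := Finset.sum_le_sum fun g _ => h2 g
    _ ≤ ∑ g : T, ((if a g = g then Nat.card T else 0) + M) := by
        apply Finset.sum_le_sum
        intro g _
        by_cases hg : a g = g
        · rw [if_pos hg]
          exact (fi_le _ _).trans (Nat.le_add_right _ _)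
        · rw [if_neg hg, zero_add]
          apply hM
          intro hcon
          exact hg (mul_inv_eq_one.1 hcon).symm
    _ = Nat.card {t : T // a t = t} * Nat.card T + Nat.card T * M := by
        rw [Finset.sum_add_distrib, Finset.sum_const, Finset.card_univ, smul_eq_mul,
          ← Nat.card_eq_fintype_card, ← Finset.sum_filter, Finset.sum_const, smul_eq_mul]
        congr 2
        rw [Nat.card_eq_fintype_card, Fintype.card_subtype]

end

end Cfsg.Agent.H830.B57
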