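import Cfsg.Agent.H830.B57.Strong

/-!
# S5717: fixed point ratios with support imply `TBase`, outer part and assembly
-/

set_option autoImplicit false

open Subgroup Finset

namespace Cfsg.Agent.H830.B57

section

variable {T : Type} [Group T]

/-- an automorphism which moves every element inside its coset of a proper subgroup is trivial -/
theorem eq_one_of_forall [IsSimpleGroup T] {H : Subgroup T} (hH : H ≠ ⊤) {a : MulAut T}
    (h : ∀ t, t⁻¹ * a t ∈ H) : a = 1 := by
  let M : Subgroup T := Subgroup.closure (Set.range fun t => t⁻¹ * a t)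
  have hM : ∀ t, t⁻¹ * a t ∈ M := fun t => Subgroup.subset_closure ⟨t, rfl⟩
  have hn : M.Normal := by
    rw [← Subgroup.normalizer_eq_top_iff, Subgroup.eq_top_iff']
    intro s
    have key : ∀ s : T, ∀ m ∈ M, s * m * s⁻¹ ∈ M := by
      intro s m hm
      induction hm using Subgroup.closure_induction with
      | mem x hx =>
        obtain ⟨t, rfl⟩ := hx
        have h1 : s * (t⁻¹ * a t) * s⁻¹ = ((t * s⁻¹)⁻¹ * a (t * s⁻¹)) * ((s⁻¹)⁻¹ * a (s⁻¹))⁻¹ := by
          rw [map_mul, map_inv]; group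
        show s * (t⁻¹ * a t) * s⁻¹ ∈ M
        rw [h1]
        exact mul_mem (hM _) (inv_mem (hM _))
      | one => rw [mul_one, mul_inv_cancel]; exact one_mem _
      | mul x y _ _ hx hy =>
        have h1 : s * (x * y) * s⁻¹ = (s * x * s⁻¹) * (s * y * s⁻¹) := by group
        rw [h1]; exact mul_mem hx hy
      | inv x _ hx =>
        have h1 : s * x⁻¹ * s⁻¹ = (s * x * s⁻¹)⁻¹ := by group
        rw [h1]; exact inv_mem hx
    rw [Subgroup.mem_normalizer_iff]
    intro m
    refine ⟨key s m, fun hm => ?_⟩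
    have h1 := key s⁻¹ _ hm
    have h2 : s⁻¹ * (s * m * s⁻¹) * s⁻¹⁻¹ = m := by group
    rwa [h2] at h1
  have hle : M ≤ H := by
    rw [Subgroup.closure_le]
    rintro _ ⟨t, rfl⟩
    exact h t
  rcases hn.eq_bot_or_eq_top with h1 | h1
  · ext t
    have h2 := hM t
    rw [h1, Subgroup.mem_bot, inv_mul_eq_one] at h2
    exact h2.symm
  · exact absurd (top_le_iff.1 (h1 ▸ hle)) hH

/-- the automorphisms in `A0 H` fixing the coset `t K` for `K = N(H)` -/
def stK (H K : Subgroup T) (hK : ∀ a ∈ A0 H, ∀ h, h ∈ K ↔ a h ∈ K) (t : T) :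
    Subgroup (MulAut T) where
  carrier := {a | a ∈ A0 H ∧ t⁻¹ * a t ∈ K}
  one_mem' := ⟨(A0 H).one_mem, by rw [MulAut.one_apply, inv_mul_cancel]; exact one_mem _⟩
  mul_mem' := by
    rintro a b ⟨ha, ha'⟩ ⟨hb, hb'⟩
    refine ⟨(A0 H).mul_mem ha hb, ?_⟩
    have h1 : t⁻¹ * (a * b) t = (t⁻¹ * a t) * a (t⁻¹ * b t) := by
      rw [MulAut.mul_apply, map_mul, map_inv]; group
    rw [h1]
    exact mul_mem ha' ((hK a ha _).1 hb')
  inv_mem' := by
    rintro a ⟨ha, ha'⟩
    refine ⟨(A0 H).inv_mem ha, ?_⟩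
    have h1 : t⁻¹ * (a⁻¹ : MulAut T) t = (a⁻¹ : MulAut T) ((t⁻¹ * a t)⁻¹) := by
      rw [mul_inv_rev, map_mul, inv_inv, ← map_inv a t, MulAut.inv_apply_self]
    rw [h1]
    exact (hK a⁻¹ ((A0 H).inv_mem ha) _).1 (inv_mem ha')

/-- halving: `n` points kill a group of less than `2 ^ n` automorphisms -/
theorem halving [Finite T] [IsSimpleGroup T] (H K : Subgroup T)
    (hK : ∀ a ∈ A0 H, ∀ h, h ∈ K ↔ a h ∈ K) (hKT : K ≠ ⊤) :
    ∀ (n : ℕ) (D : Subgroup (MulAut T)), D ≤ A0 H → Nat.card D < 2 ^ n →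
      ∃ t : Fin n → T, ∀ a ∈ D, (∀ j, (t j)⁻¹ * a (t j) ∈ K) → a = 1 := by
  have hfin : Finite (MulAut T) := inferInstance
  intro n
  induction n with
  | zero =>
    intro D _ hD
    exact absurd (Nat.card_pos (α := D)) (by omega)
  | succ n ih =>
    intro D hDA hD
    by_cases hne : ∀ a ∈ D, a = 1
    · exact ⟨fun _ => 1, fun a ha _ => hne a ha⟩
    push Not at hne
    obtain ⟨a, ha, ha1⟩ := hne
    obtain ⟨t₀, ht₀⟩ : ∃ t, ¬ t⁻¹ * a t ∈ K := by
      by_contra hcon
      push Not at hcon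
      exact ha1 (eq_one_of_forall hKT hcon)
    have hlt : D ⊓ stK H K hK t₀ < D := by
      refine lt_of_le_of_ne inf_le_left fun he => ht₀ ?_
      have h1 : a ∈ D ⊓ stK H K hK t₀ := by rw [he]; exact ha
      exact h1.2.2
    have hcard : 2 * Nat.card (D ⊓ stK H K hK t₀ : Subgroup (MulAut T)) ≤ Nat.card D := by
      have hdvd := Subgroup.card_dvd_of_le hlt.le
      obtain ⟨k, hk⟩ := hdvd
      have hpos : 0 < Nat.card D := Nat.card_pos
      have hk1 : k ≠ 1 := by
        rintro rfl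
        rw [mul_one] at hk
        exact hlt.ne (Subgroup.eq_of_le_of_card_ge hlt.le hk.le)
      have hk0 : k ≠ 0 := by
        rintro rfl
        omega
      have hk2 : 2 ≤ k := by omega
      rw [hk]
      calc 2 * Nat.card (D ⊓ stK H K hK t₀ : Subgroup (MulAut T))
          = Nat.card (D ⊓ stK H K hK t₀ : Subgroup (MulAut T)) * 2 := by ring
        _ ≤ _ := Nat.mul_le_mul_left _ hk2
    obtain ⟨t, ht⟩ := ih (D ⊓ stK H K hK t₀) (inf_le_left.trans hDA) (by rw [pow_succ] at hD; omega)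
    refine ⟨Fin.cons t₀ t, fun b hb hj => ?_⟩
    refine ht b ⟨hb, hDA hb, ?_⟩ fun j => ?_
    · simpa using hj 0
    · simpa using hj j.succ

/-- the centraliser of an automorphism is small -/
theorem fix_small [Finite T] [IsSimpleGroup T] (hna : ∃ x y : T, x * y ≠ y * x) {C q N : ℕ}
    (hq : 2 ≤ q) {ν : T → ℕ} (h : Strg C q N T ν) (a : MulAut T) (ha : a ≠ 1) :
    Nat.card {t : T // a t = t} ^ C * q ≤ C * Nat.card T ^ C := by
  classical
  have hcyc : ∀ x : T, zpowers x ≠ ⊤ := by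
    intro x hx
    obtain ⟨u, v, huv⟩ := hna
    apply huv
    have hu : u ∈ zpowers x := by rw [hx]; trivial
    have hv : v ∈ zpowers x := by rw [hx]; trivial
    obtain ⟨i, rfl⟩ := mem_zpowers_iff.1 hu
    obtain ⟨j, rfl⟩ := mem_zpowers_iff.1 hv
    rw [← zpow_add, ← zpow_add, add_comm]
  -- general estimate
  have gen : ∀ (L : Subgroup T) (x : T), L ≠ ⊤ → x ∈ L → x ≠ 1 →
      Nat.card L ^ C * q ≤ C * Nat.card T ^ C := by
    intro L x hL hx hx1
    have h1 : Nat.card L ≤ fi x L := by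
      refine Nat.card_le_card_of_injective
        (fun l : L => (⟨l, L.mul_mem (L.mul_mem (L.inv_mem l.2) hx) l.2⟩ :
          {t : T // t⁻¹ * x * t ∈ L})) ?_
      intro l l' hll
      exact Subtype.ext (congrArg (fun z : {t : T // t⁻¹ * x * t ∈ L} => (z : T)) hll)
    calc Nat.card L ^ C * q ≤ fi x L ^ C * q ^ ν x := by
          apply Nat.mul_le_mul (Nat.pow_le_pow_left h1 _)
          calc q = q ^ 1 := (pow_one _).symm
            _ ≤ q ^ ν x := Nat.pow_le_pow_right (by omega) (h.one x hx1)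
      _ ≤ C * Nat.card T ^ C := h.fix x hx1 L hL
  let L : Subgroup T := a.toMonoidHom.eqLocus (MonoidHom.id T)
  have hLmem : ∀ t, t ∈ L ↔ a t = t := fun t => Iff.rfl
  have hL : L ≠ ⊤ := by
    intro htop
    apply ha
    ext t
    have : t ∈ L := by rw [htop]; trivial
    exact this
  have hcard : Nat.card {t : T // a t = t} = Nat.card L := rfl
  rw [hcard]
  by_cases hb : L = ⊥
  · obtain ⟨u, v, huv⟩ := hna
    have hu : u ≠ 1 := by
      rintro rfl
      apply huv
      rw [one_mul, mul_one]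
    refine le_trans ?_ (gen (zpowers u) u (hcyc u) (mem_zpowers u) hu)
    apply Nat.mul_le_mul_right
    apply Nat.pow_le_pow_left
    rw [hb, Subgroup.card_bot]
    exact Nat.card_pos
  · obtain ⟨x, hx1⟩ := Subgroup.ne_bot_iff_exists_ne_one.1 hb
    exact gen L x hL x.2 (fun h0 => hx1 (Subtype.ext h0))

end

end Cfsg.Agent.H830.B57
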