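import Cfsg.Agent.H830.B57.StrongB

/-!
# S5717: `Strg` (fixed point ratios with support) implies `TBase`
-/

set_option autoImplicit false

open Subgroup Finset

namespace Cfsg.Agent.H830.B57

section

variable {T : Type} [Group T]

/-- `TBase` for one subgroup -/
def TB (H : Subgroup T) (k : ℕ) : Prop :=
  ∃ t : Fin k → T, ∀ a : MulAut T, (∀ h, h ∈ H ↔ a h ∈ H) →
    (∀ j, (t j)⁻¹ * a (t j) ∈ H) → a = 1

theorem TB.mono {H : Subgroup T} {k l : ℕ} (h : TB H k) (hkl : k ≤ l) : TB H l := by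
  obtain ⟨t, ht⟩ := h
  refine ⟨fun j => if hj : (j : ℕ) < k then t ⟨j, hj⟩ else 1, ?_⟩
  intro a ha hfix
  refine ht a ha fun j => ?_
  have h1 := hfix ⟨j, lt_of_lt_of_le j.2 hkl⟩
  simpa [j.2] using h1

theorem tb_bot (h2 : ∃ u v : T, closure {u, v} = ⊤) : TB (⊥ : Subgroup T) 2 := by
  obtain ⟨u, v, huv⟩ := h2
  refine ⟨![u, v], ?_⟩
  intro a _ hfix
  have hu := hfix 0
  have hv := hfix 1
  simp only [mem_bot, Matrix.cons_val_zero, Matrix.cons_val_one] at hu hv
  have hu' : a u = u := (inv_mul_eq_one.1 hu).symm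
  have hv' : a v = v := (inv_mul_eq_one.1 hv).symm
  have hle : closure {u, v} ≤ (a.toMonoidHom.eqLocus (MonoidHom.id T)) := by
    rw [closure_le]
    rintro x (rfl | rfl)
    · exact hu'
    · exact hv'
  ext x
  have : x ∈ closure {u, v} := by rw [huv]; trivial
  exact hle this

theorem A0_normalizer (H : Subgroup T) (a : MulAut T) (ha : a ∈ A0 H) (h : T) :
    h ∈ normalizer (H : Set T) ↔ a h ∈ normalizer (H : Set T) := by
  have key : ∀ (a : MulAut T), a ∈ A0 H → ∀ h, h ∈ normalizer (H : Set T) →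
      a h ∈ normalizer (H : Set T) := by
    intro a ha h hh
    rw [mem_normalizer_iff] at hh ⊢
    intro x
    have h1 := (mem_A0.1 ((A0 H).inv_mem ha)) x
    have h2 := (mem_A0.1 ha) (h * (a⁻¹ : MulAut T) x * h⁻¹)
    have h3 := hh ((a⁻¹ : MulAut T) x)
    rw [map_mul, map_mul, map_inv, MulAut.apply_inv_self] at h2
    exact (h1.trans h3).trans h2
  refine ⟨key a ha h, fun hh => ?_⟩
  have h1 := key a⁻¹ ((A0 H).inv_mem ha) _ hh
  rwa [MulAut.inv_apply_self] at h1

/-- the outer estimate -/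
theorem outer_pow [Finite T] [IsSimpleGroup T] (hna : ∃ x y : T, x * y ≠ y * x) {C q N : ℕ}
    (hC : 2 ≤ C) (hq : (2 ^ C * C) ^ 2 ≤ q) {ν : T → ℕ} (h : Strg C q N T ν) (K : Subgroup T)
    (hK : K ≠ ⊤) (a : MulAut T) (ha : a ≠ 1) :
    fn a K ^ (4 * C) * q ≤ Nat.card T ^ (4 * C) := by
  classical
  have := Fintype.ofFinite T
  have hCpos : 0 < (2 ^ C * C) ^ 2 := by positivity
  have hbig : 16 ≤ (2 ^ C * C) ^ 2 := by
    have h1 : 2 ^ 2 ≤ 2 ^ C := Nat.pow_le_pow_right (by norm_num) hC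
    have h2 : 4 ≤ 2 ^ C * C := by nlinarith
    nlinarith
  have hq2 : 2 ≤ q := by omega
  -- the maximal fixed point number of an inner element
  obtain ⟨M, hM1, hM2⟩ : ∃ M : ℕ, (∀ y : T, y ≠ 1 → fi y K ≤ M) ∧
      M ^ C * q ≤ C * Nat.card T ^ C := by
    obtain ⟨u, v, huv⟩ := hna
    have hu : u ≠ 1 := by
      rintro rfl
      exact huv (by rw [one_mul, mul_one])
    obtain ⟨y, hy, hmax⟩ := Finset.exists_max_image (Finset.univ.filter fun y : T => y ≠ 1)
      (fun y => fi y K) ⟨u, Finset.mem_filter.2 ⟨Finset.mem_univ _, hu⟩⟩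
    refine ⟨fi y K, fun z hz => hmax z (Finset.mem_filter.2 ⟨Finset.mem_univ _, hz⟩), ?_⟩
    have hy1 := (Finset.mem_filter.1 hy).2
    refine le_trans ?_ (h.fix y hy1 K hK)
    apply Nat.mul_le_mul_left
    calc q = q ^ 1 := (pow_one _).symm
      _ ≤ q ^ ν y := Nat.pow_le_pow_right (by omega) (h.one y hy1)
  have h1 := outer_sq a K M hM1
  have h2 := fix_small hna hq2 h a ha
  set φ := Nat.card {t : T // a t = t} with hφ
  set n := Nat.card T with hn
  set m := max φ M with hm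
  have hmq : m ^ C * q ≤ C * n ^ C := by
    rcases le_total φ M with hle | hle
    · rw [hm, max_eq_right hle]; exact hM2
    · rw [hm, max_eq_left hle]; exact h2
  have h3 : fn a K ^ 2 ≤ 2 * m * n := by
    have e1 : φ ≤ m := le_max_left _ _
    have e2 : M ≤ m := le_max_right _ _
    calc fn a K ^ 2 ≤ φ * n + n * M := h1
      _ ≤ m * n + n * m := by gcongr
      _ = 2 * m * n := by ring
  have h4 : fn a K ^ (2 * C) * q ≤ 2 ^ C * C * n ^ (2 * C) := by
    calc fn a K ^ (2 * C) * q = (fn a K ^ 2) ^ C * q := by rw [← pow_mul]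
      _ ≤ (2 * m * n) ^ C * q := by gcongr
      _ = 2 ^ C * n ^ C * (m ^ C * q) := by rw [mul_pow, mul_pow]; ring
      _ ≤ 2 ^ C * n ^ C * (C * n ^ C) := by gcongr
      _ = 2 ^ C * C * n ^ (2 * C) := by rw [two_mul, pow_add]; ring
  have h5 : fn a K ^ (4 * C) * q * q ≤ n ^ (4 * C) * q := by
    calc fn a K ^ (4 * C) * q * q = (fn a K ^ (2 * C) * q) ^ 2 := by
          rw [mul_pow, ← pow_mul]; ring_nf
      _ ≤ (2 ^ C * C * n ^ (2 * C)) ^ 2 := by gcongr
      _ = (2 ^ C * C) ^ 2 * n ^ (4 * C) := by rw [mul_pow, ← pow_mul]; ring_nf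
      _ ≤ q * n ^ (4 * C) := by gcongr
      _ = n ^ (4 * C) * q := mul_comm _ _
  exact Nat.le_of_mul_le_mul_right h5 (by omega)

end

theorem tbase_of_strong2 (C : ℕ) (hC : 2 ≤ C) : ∃ c : ℕ, ∀ (q N : ℕ), 2 ≤ q → 1 ≤ N →
    ∀ (T : Type) [Group T] [Finite T] [IsSimpleGroup T], (∃ x y : T, x * y ≠ y * x) →
    (∃ u v : T, closure {u, v} = ⊤) →
    (∀ H : Subgroup T, H ≠ ⊤ → (Nat.card (Cfsg.Out T) : ℝ) ≤ 3 * Real.logb 2 (H.index : ℝ)) →
    ∀ ν : T → ℕ, Strg C q N T ν → TBase T (c * N) := by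
  set c0 := C ^ 2 * (4 * C + 4) + 2 * C * (2 * C + 2) with hc0
  set q0 := (2 ^ C * C) ^ 2 with hq0
  refine ⟨c0 + 4 * C * (3 * C + 3) + (3 * C + 2 + q0) + 2, ?_⟩
  intro q N hq hN T _ _ _ hna h2 hout ν h H hH
  classical
  have := Fintype.ofFinite T
  have hfinA : Finite (MulAut T) := inferInstance
  have := Fintype.ofFinite (MulAut T)
  change TB H _
  by_cases hbot : H = ⊥
  · subst hbot
    refine (tb_bot h2).mono ?_
    nlinarith
  set K : Subgroup T := normalizer (H : Set T) with hKdef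
  have hHK : H ≤ K := le_normalizer
  have hK : K ≠ ⊤ := by
    intro htop
    have hn : H.Normal := normalizer_eq_top_iff.1 htop
    rcases hn.eq_bot_or_eq_top with h1 | h1
    · exact hbot h1
    · exact hH h1
  have hKa : ∀ a ∈ A0 H, ∀ h, h ∈ K ↔ a h ∈ K := fun a ha h => A0_normalizer H a ha h
  obtain ⟨t1, ht1⟩ : ∃ t : Fin (c0 * N) → T, ∀ y : T, y ≠ 1 → ∃ j, ¬ (t j)⁻¹ * y * t j ∈ K :=
    inner_tuple hC hq hN h K hK
  let D : Subgroup (MulAut T) := A0 H ⊓ ⨅ j, stK H K hKa (t1 j)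
  have hD : ∀ a, a ∈ D ↔ a ∈ A0 H ∧ ∀ j, (t1 j)⁻¹ * a (t1 j) ∈ K := by
    intro a
    constructor
    · intro ha
      exact ⟨ha.1, fun j => ((mem_iInf.1 ha.2) j).2⟩
    · rintro ⟨ha, hj⟩
      exact ⟨ha, mem_iInf.2 fun j => ⟨ha, hj j⟩⟩
  -- `D` meets the inner automorphisms trivially
  have hDinn : ∀ y : T, MulAut.conj y ∈ D → y = 1 := by
    intro y hy
    by_contra hy1
    obtain ⟨j, hj⟩ := ht1 y hy1
    apply hj
    rw [hD] at hy
    have hyK : y ∈ K := by
      rw [hKdef, mem_normalizer_iff]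
      intro x
      have h1 := hy.1 x
      rwa [MulAut.conj_apply] at h1
    have h1 := hy.2 j
    rw [MulAut.conj_apply] at h1
    have h3 := K.mul_mem h1 hyK
    have h4 : (t1 j)⁻¹ * (y * t1 j * y⁻¹) * y = (t1 j)⁻¹ * y * t1 j := by group
    rwa [h4] at h3
  have hDcard : Nat.card D ≤ Nat.card (Cfsg.Out T) := by
    refine Nat.card_le_card_of_injective
      (fun a : D => ((a : MulAut T) : MulAut T ⧸ Cfsg.Inn T)) ?_
    intro a b hab
    have h1 : (a : MulAut T)⁻¹ * b ∈ Cfsg.Inn T := QuotientGroup.eq.1 hab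
    obtain ⟨y, hy⟩ := h1
    have h3 : MulAut.conj y ∈ D := by
      have h4 : (MulAut.conj y : MulAut T) = (a : MulAut T)⁻¹ * b := hy
      rw [h4]
      exact D.mul_mem (D.inv_mem a.2) b.2
    have h4 := hDinn y h3
    rw [h4, map_one] at hy
    exact Subtype.ext (inv_mul_eq_one.1 hy.symm)
  have hDle : Nat.card D ≤ 3 * C * N * N * q := by
    have hqR : (2 : ℝ) ≤ q := by exact_mod_cast hq
    have hTpos : (0 : ℝ) < Nat.card T := by exact_mod_cast Nat.card_pos
    have h1 : (Nat.card D : ℝ) ≤ 3 * Real.logb 2 (K.index : ℝ) := by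
      refine le_trans ?_ (hout K hK)
      exact_mod_cast hDcard
    have h3 : Real.logb 2 (K.index : ℝ) ≤ C * N * N * q := by
      have hidx : (K.index : ℝ) ≤ Nat.card T := by
        exact_mod_cast Nat.le_of_dvd Nat.card_pos (Subgroup.index_dvd_card K)
      have hidx0 : (0 : ℝ) < K.index := by
        exact_mod_cast Nat.pos_of_ne_zero Subgroup.index_ne_zero_of_finite
      calc Real.logb 2 (K.index : ℝ) ≤ Real.logb 2 ((q : ℝ) ^ (C * N * N)) := by
            apply Real.logb_le_logb_of_le (by norm_num) hidx0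
            refine hidx.trans ?_
            exact_mod_cast h.card
        _ = (C * N * N : ℕ) * Real.logb 2 q := by rw [Real.logb_pow]
        _ ≤ (C * N * N : ℕ) * q := by
            gcongr
            rw [Real.logb_le_iff_le_rpow (by norm_num) (by linarith), Real.rpow_natCast]
            exact_mod_cast Nat.lt_two_pow_self.le
        _ = C * N * N * q := by push_cast; ring
    have h4 : (Nat.card D : ℝ) ≤ ((3 * C * N * N * q : ℕ) : ℝ) := by
      push_cast
      linarith
    exact_mod_cast h4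
  -- numerical facts
  have n1 : 3 * C < 2 ^ (3 * C) := Nat.lt_two_pow_self
  have n2 : N * N < 2 ^ (2 * N) := by
    have h1 : N < 2 ^ N := Nat.lt_two_pow_self
    calc N * N < 2 ^ N * 2 ^ N := Nat.mul_lt_mul'' h1 h1
      _ = 2 ^ (2 * N) := by rw [two_mul, pow_add]
  have n3 : 3 * C * (N * N) < 2 ^ (3 * C + 2 * N) := by
    rw [pow_add]
    exact Nat.mul_lt_mul'' n1 n2
  -- second family of points
  have second : ∃ (k2 : ℕ) (t2 : Fin k2 → T), k2 ≤ (4 * C * (3 * C + 3) + (3 * C + 2 + q0)) * N ∧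
      ∀ a ∈ D, (∀ j, (t2 j)⁻¹ * a (t2 j) ∈ K) → a = 1 := by
    rcases lt_or_ge q q0 with hlt | hge
    · have hlt2 : Nat.card D < 2 ^ (3 * C + 2 * N + q0) := by
        calc Nat.card D ≤ 3 * C * N * N * q := hDle
          _ = 3 * C * (N * N) * q := by ring
          _ < 2 ^ (3 * C + 2 * N) * 2 ^ q0 := by
              apply Nat.mul_lt_mul'' n3
              exact lt_trans hlt Nat.lt_two_pow_self
          _ = 2 ^ (3 * C + 2 * N + q0) := by rw [← pow_add]
      obtain ⟨t2, ht2⟩ := halving H K hKa hK _ D inf_le_left hlt2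
      refine ⟨_, t2, ?_, ht2⟩
      have e1 : 3 * C + 2 * N + q0 ≤ (3 * C + 2 + q0) * N := by
        have : 1 ≤ N := hN
        nlinarith
      calc 3 * C + 2 * N + q0 ≤ (3 * C + 2 + q0) * N := e1
        _ ≤ (4 * C * (3 * C + 3) + (3 * C + 2 + q0)) * N :=
            Nat.mul_le_mul_right _ (Nat.le_add_left _ _)
    · set j := 3 * C + 2 * N + 1 with hj
      have hsum : ∑ a ∈ (Finset.univ.filter fun a : MulAut T => a ∈ D ∧ a ≠ 1),
          (Nat.card {t : T // t⁻¹ * a t ∈ K}) ^ (4 * C * j) < (Nat.card T) ^ (4 * C * j) := by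
        have hone : ∀ a : MulAut T, a ≠ 1 →
            (fn a K) ^ (4 * C * j) * q ^ j ≤ (Nat.card T) ^ (4 * C * j) := by
          intro a ha
          have h1 := outer_pow hna hC hge h K hK a ha
          calc (fn a K) ^ (4 * C * j) * q ^ j = (fn a K ^ (4 * C) * q) ^ j := by
                rw [mul_pow, ← pow_mul]
            _ ≤ (Nat.card T ^ (4 * C)) ^ j := by gcongr
            _ = (Nat.card T) ^ (4 * C * j) := by rw [← pow_mul]
        have hcardS : (Finset.univ.filter fun a : MulAut T => a ∈ D ∧ a ≠ 1).card ≤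
            3 * C * N * N * q := by
          refine le_trans ?_ hDle
          rw [Nat.card_eq_fintype_card, Fintype.card_subtype]
          apply Finset.card_le_card
          intro a ha
          exact Finset.mem_filter.2 ⟨Finset.mem_univ _, (Finset.mem_filter.1 ha).2.1⟩
        have hqj : 3 * C * N * N * q < q ^ j := by
          have e1 : q ^ j = q ^ (3 * C + 2 * N) * q := by rw [hj, pow_succ]
          rw [e1, show 3 * C * N * N = 3 * C * (N * N) by ring]
          apply Nat.mul_lt_mul_of_pos_right _ (by omega)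
          calc 3 * C * (N * N) < 2 ^ (3 * C + 2 * N) := n3
            _ ≤ q ^ (3 * C + 2 * N) := Nat.pow_le_pow_left hq _
        have hq_pos : 0 < q ^ j := by positivity
        apply Nat.lt_of_mul_lt_mul_right (a := q ^ j)
        rw [Finset.sum_mul]
        calc ∑ a ∈ (Finset.univ.filter fun a : MulAut T => a ∈ D ∧ a ≠ 1),
            (Nat.card {t : T // t⁻¹ * a t ∈ K}) ^ (4 * C * j) * q ^ j
            ≤ ∑ _a ∈ (Finset.univ.filter fun a : MulAut T => a ∈ D ∧ a ≠ 1),
              (Nat.card T) ^ (4 * C * j) :=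
              Finset.sum_le_sum fun a ha => hone a (Finset.mem_filter.1 ha).2.2
          _ = (Finset.univ.filter fun a : MulAut T => a ∈ D ∧ a ≠ 1).card *
              (Nat.card T) ^ (4 * C * j) := by rw [Finset.sum_const, smul_eq_mul]
          _ ≤ 3 * C * N * N * q * (Nat.card T) ^ (4 * C * j) := by gcongr
          _ < q ^ j * (Nat.card T) ^ (4 * C * j) := by
              apply Nat.mul_lt_mul_of_pos_right hqj
              have : 0 < Nat.card T := Nat.card_pos
              positivity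
          _ = (Nat.card T) ^ (4 * C * j) * q ^ j := mul_comm _ _
      obtain ⟨t2, ht2⟩ := exists_tuple _ (fun (a : MulAut T) (t : T) => t⁻¹ * a t ∈ K) _ hsum
      refine ⟨_, t2, ?_, ?_⟩
      · have e1 : j ≤ (3 * C + 3) * N := by
          have : 1 ≤ N := hN
          rw [hj]
          nlinarith
        calc 4 * C * j ≤ 4 * C * ((3 * C + 3) * N) := by gcongr
          _ = 4 * C * (3 * C + 3) * N := by ring
          _ ≤ (4 * C * (3 * C + 3) + (3 * C + 2 + q0)) * N :=
              Nat.mul_le_mul_right _ (Nat.le_add_right _ _)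
      · intro a ha hfix
        by_contra ha1
        obtain ⟨i, hi⟩ := ht2 a (Finset.mem_filter.2 ⟨Finset.mem_univ _, ha, ha1⟩)
        exact hi (hfix i)
  obtain ⟨k2, t2, hk2, ht2⟩ := second
  have hcomb : TB H (c0 * N + k2) := by
    refine ⟨Fin.append t1 t2, ?_⟩
    intro a ha hfix
    apply ht2 a
    · rw [hD]
      refine ⟨ha, fun j => ?_⟩
      have h1 := hfix (Fin.castAdd k2 j)
      rw [Fin.append_left] at h1
      exact hHK h1
    · intro j
      have h1 := hfix (Fin.natAdd (c0 * N) j)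
      rw [Fin.append_right] at h1
      exact hHK h1
  refine hcomb.mono ?_
  calc c0 * N + k2 ≤ c0 * N + (4 * C * (3 * C + 3) + (3 * C + 2 + q0)) * N := by gcongr
    _ = (c0 + 4 * C * (3 * C + 3) + (3 * C + 2 + q0)) * N := by ring
    _ ≤ (c0 + 4 * C * (3 * C + 3) + (3 * C + 2 + q0) + 2) * N :=
        Nat.mul_le_mul_right _ (Nat.le_add_right _ _)

end Cfsg.Agent.H830.B57
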