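import Cfsg.Agent.H830.B57.Final

/-!
# S5717: universe transfer
-/

set_option autoImplicit false

open Subgroup

namespace Cfsg.Agent.H830.B57

/-- from `Type` to arbitrary universes, and from weak bases to bases of faithful actions -/
theorem transfer {c : ℕ} (h : ∀ (d : ℕ), 5 ≤ d → ∀ (G Ω : Type) [Group G] [Finite G]
      [MulAction G Ω] [Finite Ω], MulAction.IsPreprimitive G Ω →
      ¬ Cfsg.Involves (alternatingGroup (Fin d)) G → BaseLE G Ω (c * d))
    (d : ℕ) (hd : 5 ≤ d) (G Ω : Type*) [Group G] [Finite G] [MulAction G Ω] [FaithfulSMul G Ω]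
    [Fintype Ω] (hp : MulAction.IsPreprimitive G Ω)
    (hG : ¬ Cfsg.Involves (alternatingGroup (Fin d)) G) :
    ∃ B : Finset Ω, B.card ≤ c * d ∧ ∀ g : G, (∀ b ∈ B, g • b = b) → g = 1 := by
  classical
  let n := Nat.card Ω
  let e : Ω ≃ Fin n := (Finite.equivFin Ω)
  let P : Subgroup (Equiv.Perm (Fin n)) := ((e.permCongrHom).toMonoidHom.comp
    (MulAction.toPermHom G Ω)).range
  let r : G →* P := ((e.permCongrHom).toMonoidHom.comp (MulAction.toPermHom G Ω)).rangeRestrict
  have hr : Function.Surjective r := MonoidHom.rangeRestrict_surjective _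
  have hact : ∀ (g : G) (x : Ω), r g • e x = e (g • x) := by
    intro g x
    change e (g • e.symm (e x)) = e (g • x)
    rw [e.symm_apply_apply]
  have hpP : MulAction.IsPreprimitive P (Fin n) := by
    let f : Ω →ₑ[(r : G → P)] Fin n := { toFun := e, map_smul' := fun g x => (hact g x).symm }
    exact MulAction.IsPreprimitive.of_surjective (f := f) e.surjective
  have hGP : ¬ Cfsg.Involves (alternatingGroup (Fin d)) P := fun h' =>
    hG (involves_of_surjective r hr h')
  obtain ⟨B, hB1, hB2⟩ := h d hd P (Fin n) hpP hGP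
  refine ⟨B.map e.symm.toEmbedding, by simpa using hB1, ?_⟩
  intro g hg
  have h1 : ∀ x : Fin n, r g • x = x := by
    apply hB2
    intro y hy
    have h2 := hg (e.symm y) (by simpa using hy)
    have h3 := hact g (e.symm y)
    rw [e.apply_symm_apply, h2, e.apply_symm_apply] at h3
    exact h3
  apply FaithfulSMul.eq_of_smul_eq_smul (α := Ω)
  intro x
  have h2 := h1 (e x)
  rw [hact] at h2
  rw [one_smul]
  exact e.injective h2

end Cfsg.Agent.H830.B57
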