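import Cfsg.Agent.H830.B57.OfRow

/-!
# S5717: union bounds
-/

set_option autoImplicit false

open Subgroup Finset

namespace Cfsg.Agent.H830.B57

/-- union bound -/
theorem exists_tuple {A Ω : Type*} [Finite Ω] (S : Finset A) (R : A → Ω → Prop) (b : ℕ)
    (h : ∑ a ∈ S, (Nat.card {ω // R a ω}) ^ b < (Nat.card Ω) ^ b) :
    ∃ w : Fin b → Ω, ∀ a ∈ S, ∃ j, ¬ R a (w j) := by
  classical
  have := Fintype.ofFinite Ω
  by_contra hcon
  push Not at hcon
  have hcov : (Finset.univ : Finset (Fin b → Ω)) ⊆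
      S.biUnion fun a => Finset.univ.filter (fun w : Fin b → Ω => ∀ j, R a (w j)) := by
    intro w _
    obtain ⟨a, ha, hw⟩ := hcon w
    exact Finset.mem_biUnion.2 ⟨a, ha, Finset.mem_filter.2 ⟨Finset.mem_univ _, hw⟩⟩
  have h1 := Finset.card_le_card hcov
  have h2 := Finset.card_biUnion_le (s := S)
    (t := fun a => Finset.univ.filter (fun w : Fin b → Ω => ∀ j, R a (w j)))
  have h3 : ∀ a, (Finset.univ.filter (fun w : Fin b → Ω => ∀ j, R a (w j))).card =
      (Nat.card {ω // R a ω}) ^ b := by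
    intro a
    rw [← Fintype.card_subtype, ← Nat.card_eq_fintype_card]
    have e : {w : Fin b → Ω // ∀ j, R a (w j)} ≃ (Fin b → {ω // R a ω}) :=
      { toFun := fun w j => ⟨w.1 j, w.2 j⟩
        invFun := fun w => ⟨fun j => (w j).1, fun j => (w j).2⟩
        left_inv := fun w => rfl
        right_inv := fun w => rfl }
    rw [Nat.card_congr e, Nat.card_fun, Nat.card_fin]
  have h4 : (Finset.univ : Finset (Fin b → Ω)).card = (Nat.card Ω) ^ b := by
    rw [Finset.card_univ, ← Nat.card_eq_fintype_card, Nat.card_fun, Nat.card_fin]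
  rw [h4] at h1
  have h5 : (Nat.card Ω) ^ b ≤ ∑ a ∈ S, (Nat.card {ω // R a ω}) ^ b := by
    refine h1.trans (h2.trans (le_of_eq ?_))
    exact Finset.sum_congr rfl fun a _ => h3 a
  exact absurd h (not_lt.2 h5)

/-- more points -/
theorem TBase.mono {T : Type*} [Group T] {k l : ℕ} (h : TBase T k) (hkl : k ≤ l) : TBase T l := by
  intro H hH
  obtain ⟨t, ht⟩ := h H hH
  refine ⟨fun j => if hj : (j : ℕ) < k then t ⟨j, hj⟩ else 1, ?_⟩
  intro a ha hfix
  refine ht a ha fun j => ?_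
  have h1 := hfix ⟨j, lt_of_lt_of_le j.2 hkl⟩
  simpa [j.2] using h1

section real

/-- the numerical heart -/
theorem num1 (C : ℕ) (hC : 2 ≤ C) (F x : ℝ) (hF0 : 0 ≤ F) (hx : 2 ≤ x) (h1 : F ^ C * x ≤ C)
    (h2 : C * F ≤ C - 1) :
    F ^ (C ^ 2 * (4 * C + 4) + 2 * C * (2 * C + 2)) * x ^ (2 * C + 2) ≤ 1 := by
  have hC' : (2 : ℝ) ≤ C := by exact_mod_cast hC
  have hCpos : (0 : ℝ) < C := by linarith
  have hF1 : F ≤ 1 := by
    by_contra hcon
    push Not at hcon
    nlinarith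
  have hxpos : 0 < x := by linarith
  rcases le_or_gt ((C : ℝ) ^ 2) x with hx2 | hx2
  · -- large `x`
    have h3 : F ^ C ≤ C / x := by
      rw [le_div_iff₀ hxpos]; exact h1
    have h4 : F ^ (2 * C) ≤ 1 / x := by
      rw [mul_comm, pow_mul]
      calc (F ^ C) ^ 2 ≤ (C / x) ^ 2 := by gcongr
        _ = C ^ 2 / x ^ 2 := by rw [div_pow]
        _ ≤ x / x ^ 2 := by gcongr
        _ = 1 / x := by field_simp
    have h5 : F ^ (2 * C * (2 * C + 2)) * x ^ (2 * C + 2) ≤ 1 := by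
      rw [pow_mul, ← mul_pow]
      apply pow_le_one₀ (by positivity)
      calc F ^ (2 * C) * x ≤ 1 / x * x := by gcongr
        _ = 1 := by field_simp
    rw [pow_add, mul_assoc]
    calc F ^ (C ^ 2 * (4 * C + 4)) * (F ^ (2 * C * (2 * C + 2)) * x ^ (2 * C + 2)) ≤ 1 * 1 := by
          gcongr
          exact pow_le_one₀ hF0 hF1
      _ = 1 := one_mul 1
  · -- small `x`
    have h3 : F ^ C ≤ 1 / 2 := by
      have hF2 : F ≤ (C - 1) / C := by
        rw [le_div_iff₀ hCpos]; linarith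
      have hb : (2 : ℝ) ≤ (C / (C - 1)) ^ C := by
        have hC1 : (0 : ℝ) < C - 1 := by linarith
        have e1 : (C : ℝ) / (C - 1) = 1 + 1 / (C - 1) := by field_simp; ring
        rw [e1]
        have h6 := one_add_mul_le_pow (a := (1 : ℝ) / (C - 1)) (by
          have : (0 : ℝ) ≤ 1 / (C - 1) := by positivity
          linarith) C
        have h7 : (1 : ℝ) ≤ C * (1 / (C - 1)) := by
          rw [mul_one_div, le_div_iff₀ hC1]; linarith
        linarith
      calc F ^ C ≤ ((C - 1) / C) ^ C := by gcongr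
        _ = 1 / (C / (C - 1)) ^ C := by
            rw [← one_div_pow, one_div_div]
        _ ≤ 1 / 2 := by gcongr
    have h4 : x ^ (2 * C + 2) ≤ 2 ^ (C * (4 * C + 4)) := by
      have h6 : (C : ℝ) ≤ 2 ^ C := by exact_mod_cast Nat.lt_two_pow_self.le
      calc x ^ (2 * C + 2) ≤ ((C : ℝ) ^ 2) ^ (2 * C + 2) := by gcongr
        _ = (C : ℝ) ^ (4 * C + 4) := by rw [← pow_mul]; congr 1; ring
        _ ≤ (2 ^ C) ^ (4 * C + 4) := by gcongr
        _ = 2 ^ (C * (4 * C + 4)) := by rw [← pow_mul]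
    have h5 : F ^ (C ^ 2 * (4 * C + 4)) ≤ (1 / 2) ^ (C * (4 * C + 4)) := by
      have : C ^ 2 * (4 * C + 4) = C * (C * (4 * C + 4)) := by ring
      rw [this, pow_mul]
      gcongr
    rw [pow_add]
    have h6 : F ^ (2 * C * (2 * C + 2)) ≤ 1 := pow_le_one₀ hF0 hF1
    calc F ^ (C ^ 2 * (4 * C + 4)) * F ^ (2 * C * (2 * C + 2)) * x ^ (2 * C + 2)
        ≤ (1 / 2) ^ (C * (4 * C + 4)) * 1 * 2 ^ (C * (4 * C + 4)) := by gcongr
      _ = 1 := by rw [mul_one, ← mul_pow]; norm_num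

/-- a geometric sum over a finite set of positive integers -/
theorem geo (S : Finset ℕ) (hS : ∀ s ∈ S, 1 ≤ s) : ∑ s ∈ S, ((1 : ℝ) / 4) ^ s ≤ 1 / 3 := by
  have h0 : 0 ∉ S := fun h => absurd (hS 0 h) (by norm_num)
  have hsum : Summable fun s : ℕ => ((1 : ℝ) / 4) ^ s :=
    summable_geometric_of_lt_one (by norm_num) (by norm_num)
  have h1 : ∑ s ∈ insert 0 S, ((1 : ℝ) / 4) ^ s ≤ ∑' s : ℕ, ((1 : ℝ) / 4) ^ s :=
    hsum.sum_le_tsum _ fun s _ => by positivity
  rw [tsum_geometric_of_lt_one (by norm_num) (by norm_num), Finset.sum_insert h0] at h1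
  norm_num at h1 ⊢
  linarith

end real

end Cfsg.Agent.H830.B57
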